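import Cfsg.Agent.H8.Signalizer
import Cfsg.Agent.H4.Dihedral
import Cfsg.Agent.H5.PStable
import Cfsg.Agent.H7.ZStar
import Cfsg.Prelude.Def_CaseTheorems

/-!
# Groups with `2`-constrained `2`-locals and `SCN₃(2) ≠ ∅`
-/

set_option autoImplicit false

namespace Cfsg.Agent.H4

open Subgroup Cfsg.Agent.H8
open scoped commutatorElement

variable {G : Type*} [Group G]

theorem eq_one_or_eq_of_mem_zpowers_two {t x : G} (ht : orderOf t = 2) (hx : x ∈ zpowers t) :
    x = 1 ∨ x = t := by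
  obtain ⟨k, rfl⟩ := mem_zpowers_iff.1 hx
  have h2 : t ^ (2 : ℤ) = 1 := by
    rw [zpow_two, ← pow_two, ← ht, pow_orderOf_eq_one]
  obtain ⟨m, rfl | rfl⟩ := Int.even_or_odd' k
  · left; rw [zpow_mul, h2, one_zpow]
  · right; rw [zpow_add, zpow_mul, h2, one_zpow, one_mul, zpow_one]

theorem normalizer_zpowers_two {t : G} (ht : orderOf t = 2) :
    normalizer ((zpowers t : Subgroup G) : Set G) = centralizer {t} := by
  apply le_antisymm
  · intro g hg
    have h1 := (mem_normalizer_iff.1 hg t).1 (mem_zpowers t)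
    rw [mem_centralizer_singleton_iff]
    rcases eq_one_or_eq_of_mem_zpowers_two ht h1 with h | h
    · have : t = 1 := by simpa using h
      rw [this, mul_one, one_mul]
    · calc g * t = g * t * g⁻¹ * g := by group
        _ = t * g := by rw [h]
  · rw [← centralizer_zpowers]
    exact centralizer_le_normalizer _

theorem zpowers_pgroup_two {t : G} (ht : orderOf t = 2) : IsPGroup 2 (zpowers t) :=
  IsPGroup.of_card (n := 1) (by rw [Nat.card_zpowers, ht, pow_one])

theorem zpowers_ne_bot_two {t : G} (ht : orderOf t = 2) : zpowers t ≠ ⊥ := by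
  rw [Ne, zpowers_eq_bot]
  rintro rfl
  simp at ht

theorem orderOf_two_of_mul_self {t : G} (h : t * t = 1) (h1 : t ≠ 1) : orderOf t = 2 :=
  orderOf_eq_prime (by rw [pow_two, h]) h1

theorem orderOf_conj' (g x : G) : orderOf (g * x * g⁻¹) = orderOf x :=
  (MulAut.conj g).orderOf_eq x

/-- A subgroup on which an involution acts fixed-point-freely is abelian. -/
theorem comm_of_fpf_involution [Finite G] {K : Subgroup G} {z : G} (hz : z * z = 1)
    (hn : z ∈ normalizer (K : Set G)) (h : K ⊓ centralizer {z} = ⊥) : IsMulCommutative K := by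
  let φ : K →* K := ((MulAut.conj z).toMonoidHom.comp K.subtype).codRestrict K fun x =>
    (mem_normalizer_iff.1 hn x).1 x.2
  have h1 : MonoidHom.FixedPointFree φ := by
    intro x hx
    have hx' : z * x * z⁻¹ = x := congrArg Subtype.val hx
    have : (x : G) ∈ K ⊓ centralizer {z} := ⟨x.2, mem_centralizer_singleton_iff.2 (by
      calc (x : G) * z = z * x * z⁻¹ * z := by rw [hx']
        _ = z * x := by group)⟩
    rw [h] at this
    exact Subtype.ext this
  have h2 : Function.Involutive φ := by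
    intro x
    apply Subtype.ext
    change z * (z * x * z⁻¹) * z⁻¹ = x
    calc z * (z * x * z⁻¹) * z⁻¹ = (z * z) * x * (z * z)⁻¹ := by group
      _ = x := by rw [hz]; group
  exact ⟨⟨fun a b => (h1.commute_all_of_involutive h2 a b).eq⟩⟩

theorem eq_of_orderOf_two_of_isCyclic {C : Type*} [Group C] [Finite C] [IsCyclic C] {x y : C}
    (hx : orderOf x = 2) (hy : orderOf y = 2) : x = y := by
  classical
  cases nonempty_fintype C
  by_contra hne
  have h := IsCyclic.card_pow_eq_one_le (α := C) (n := 2) (by norm_num)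
  have hsub : ({1, x, y} : Finset C) ⊆ Finset.univ.filter fun a : C => a ^ 2 = 1 := by
    intro a ha
    simp only [Finset.mem_insert, Finset.mem_singleton] at ha
    rw [Finset.mem_filter]
    refine ⟨Finset.mem_univ _, ?_⟩
    rcases ha with rfl | rfl | rfl
    · simp
    · rw [← hx, pow_orderOf_eq_one]
    · rw [← hy, pow_orderOf_eq_one]
  have h3 : ({1, x, y} : Finset C).card = 3 := Finset.card_eq_three.2
    ⟨1, x, y, (ne_one_of_orderOf_two hx).symm, (ne_one_of_orderOf_two hy).symm, hne, rfl⟩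
  have := Finset.card_le_card hsub
  omega

/-- An involution normalizing an elementary abelian `2`-group `E` has `|E| ≤ |C_E(t)|²`. -/
theorem card_le_sq_centralizer [Finite G] {E : Subgroup G} (hE : IsElementaryAbelian 2 E) {t : G}
    (ht : t * t = 1) (hn : t ∈ normalizer (E : Set G)) :
    Nat.card E ≤ Nat.card ↥(E ⊓ centralizer {t}) ^ 2 := by
  have hc := fun a ha b hb => elemAb_mul_comm hE (a := a) (b := b) ha hb
  have hm : ∀ e ∈ E, t * e * t⁻¹ ∈ E := fun e he => (mem_normalizer_iff.1 hn e).1 he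
  let f : E →* G := MonoidHom.mk' (fun e => t * e * t⁻¹ * e) fun a b => by
    have := hc _ (hm b b.2) _ a.2
    simp only [coe_mul]
    calc t * (a * b) * t⁻¹ * (a * b) = t * a * t⁻¹ * (t * b * t⁻¹ * a) * b := by group
      _ = t * a * t⁻¹ * (a * (t * b * t⁻¹)) * b := by rw [this]
      _ = _ := by group
  have hsq : ∀ e ∈ E, e * e = 1 := fun e he => by rw [← pow_two]; exact elemAb_pow hE he
  have h1 : f.range ≤ E ⊓ centralizer {t} := by
    rintro _ ⟨e, rfl⟩
    refine ⟨E.mul_mem (hm e e.2) e.2, mem_centralizer_singleton_iff.2 ?_⟩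
    change t * e * t⁻¹ * e * t = t * (t * e * t⁻¹ * e)
    have h2 := hc _ (hm e e.2) _ e.2
    have ht' : t⁻¹ = t := inv_eq_of_mul_eq_one_right ht
    calc t * e * t⁻¹ * e * t = e * (t * e * t⁻¹) * t := by rw [h2]
      _ = e * t * e := by group
      _ = (t * t) * e * t * e := by rw [ht, one_mul]
      _ = t * (t * e * t⁻¹ * e) := by rw [ht']; group
  have h2 : f.ker.map E.subtype ≤ E ⊓ centralizer {t} := by
    rintro _ ⟨e, he, rfl⟩
    refine ⟨e.2, mem_centralizer_singleton_iff.2 ?_⟩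
    have he' : t * e * t⁻¹ * e = 1 := he
    change (e : G) * t = t * e
    calc (e : G) * t = (t * e * t⁻¹ * e) * e * t := by rw [he', one_mul]
      _ = t * e * t⁻¹ * (e * e) * t := by group
      _ = t * e := by rw [hsq e e.2]; group
  have h3 := card_le_of_le h1
  have h4 := card_le_of_le h2
  rw [card_map_of_injective E.subtype_injective] at h4
  have h5 : Nat.card E = Nat.card f.ker * Nat.card f.range := by
    rw [← index_ker, mul_comm, index_mul_card]
  rw [h5, pow_two]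
  exact Nat.mul_le_mul h4 h3

theorem pow_le_card_of_lt [Finite G] {p : ℕ} [hp : Fact p.Prime] {E : Subgroup G}
    (hE : IsPGroup p E) {k : ℕ} (h : p ^ k < Nat.card E) : p ^ (k + 1) ≤ Nat.card E := by
  obtain ⟨n, hn⟩ := IsPGroup.iff_card.1 hE
  rw [hn] at h ⊢
  exact Nat.pow_le_pow_right hp.out.pos ((Nat.pow_lt_pow_iff_right hp.out.one_lt).1 h)

theorem cj_Opp (p : ℕ) [Fact p.Prime] [Finite G] (g : G) (H : Subgroup G) :
    cj g (Opp p H) = Opp p (cj g H) :=
  L0.map_map_pPrimeCore_of_injective _ (MulAut.conj g).injective H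

/-- If a Sylow `2`-subgroup normalizes no non-trivial subgroup of odd order, has a normal
elementary abelian subgroup of rank at least three containing a central involution, and all
involution centralizers are `2`-constrained, then all involution centralizers are core-free. -/
theorem opp_centralizer_eq_bot [Finite G] {S E : Subgroup G} (hS : IsSylowIn 2 S ⊤)
    (hE : IsElementaryAbelian 2 E) (hE8 : 2 ^ 3 ≤ Nat.card E)
    (hSE : S ≤ normalizer (E : Set G))
    (hinv : ∀ X : Subgroup G, ¬ 2 ∣ Nat.card X → S ≤ normalizer (X : Set G) → X = ⊥)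
    (hcon : ∀ t : G, orderOf t = 2 → IsPConstrained 2 (centralizer ({t} : Set G)))
    {t : G} (ht : orderOf t = 2) : Opp 2 (centralizer {t}) = ⊥ := by
  let θ : G → Subgroup G := fun a => Opp 2 (centralizer {a})
  have hodd : ∀ a, ¬ 2 ∣ Nat.card (θ a) := fun a => L0.not_dvd_card_map_pPrimeCore _
  have hnorm : ∀ a, centralizer {a} ≤ normalizer ((θ a : Subgroup G) : Set G) := fun a =>
    L0.le_normalizer_map_pPrimeCore _
  have hbal : ∀ a b, orderOf a = 2 → orderOf b = 2 → a * b = b * a →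
      θ a ⊓ centralizer {b} ≤ θ b := fun a b ha hb hab =>
    Opp_centralizer_balance (zpowers_pgroup_two ha) hab (hcon b hb)
  have hE1 : E ≠ ⊥ := ne_bot_of_pow_le_card (by norm_num) hE8
  have hord : ∀ a ∈ E, a ≠ 1 → orderOf a = 2 := fun a ha h1 => elemAb_orderOf hE ha h1
  have hEC : ∀ a ∈ E, E ≤ centralizer {a} := fun a ha e he =>
    mem_centralizer_singleton_iff.2 (elemAb_mul_comm hE he ha)
  obtain ⟨z, hzE, hz, hzS, -⟩ := H5.exists_mem_centralizer_of_isPGroup (elemAb_pgroup hE)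
    hS.pgroup hSE hE1
  have hθz : θ z = ⊥ := hinv _ (hodd z) (le_trans (fun s hs =>
    mem_centralizer_singleton_iff.2 (hzS s hs)) (hnorm z))
  have hab : ∀ a ∈ E, a ≠ 1 → IsMulCommutative (θ a) := by
    intro a ha h1
    refine comm_of_fpf_involution (mul_self_of_orderOf_two hz) (hnorm a (hEC a ha hzE)) ?_
    rw [eq_bot_iff, ← hθz]
    exact hbal a z (hord a ha h1) hz (elemAb_mul_comm hE ha hzE)
  have hcop : ∀ a ∈ E, CopAct E (θ a) := fun a ha =>
    copAct_of_elemAb hE (hodd a) ((hEC a ha).trans (hnorm a))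
  have hpair : ∀ a ∈ E, a ≠ 1 → ∀ b ∈ E, b ≠ 1 →
      θ a ≤ centralizer ((θ b : Subgroup G) : Set G) := by
    intro a ha ha1 b hb hb1
    refine (hcop a ha).le_of_hyperplanes hE hE1 fun B₁ hB₁ hB₁' => ?_
    rw [le_centralizer_iff]
    refine (hcop b hb).le_of_hyperplanes hE hE1 fun B₂ hB₂ hB₂' => ?_
    obtain ⟨c, hc, hc1⟩ := exists_mem_ne_one_of_le_card (k := 1) (by norm_num)
      (pow_le_card_inf_of_hyperplanes hB₁ hB₂ hB₁' hB₂' hE8)
    have hcE := hB₁ hc.1
    have h1 : θ a ⊓ centralizer (B₁ : Set G) ≤ θ c :=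
      (inf_le_inf_left _ (centralizer_le_singleton hc.1)).trans
        (hbal a c (hord a ha ha1) (hord c hcE hc1) (elemAb_mul_comm hE ha hcE))
    have h2 : θ b ⊓ centralizer (B₂ : Set G) ≤ θ c :=
      (inf_le_inf_left _ (centralizer_le_singleton hc.2)).trans
        (hbal b c (hord b hb hb1) (hord c hcE hc1) (elemAb_mul_comm hE hb hcE))
    intro x hx y hy
    exact comm_of_mem (hab c hcE hc1) (h1 hy) (h2 hx)
  let Y : Subgroup G := ⨆ a : {a : G // a ∈ E ∧ a ≠ 1}, θ a
  have hcj : ∀ g a, cj g (θ a) = θ (g * a * g⁻¹) := fun g a => by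
    simp only [θ]
    rw [cj_Opp, cj_centralizer_singleton]
  have hSY : S ≤ normalizer (Y : Set G) := by
    intro s hs
    refine mem_normalizer_of_cj_le ?_
    rw [cj_le_iff]
    refine iSup_le fun a => ?_
    rw [← cj_le_iff, hcj]
    exact le_iSup (fun a : {a : G // a ∈ E ∧ a ≠ 1} => θ a)
      ⟨s * a * s⁻¹, conj_mem_of_le_normalizer hSE hs a.2.1, by simpa using a.2.2⟩
  have hY0 : Opp 2 Y = ⊥ := hinv _ (L0.not_dvd_card_map_pPrimeCore _)
    (hSY.trans (L0.normalizer_le_normalizer_map_pPrimeCore Y))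
  have hθE : ∀ a ∈ E, a ≠ 1 → θ a = ⊥ := by
    intro a ha h1
    rw [eq_bot_iff, ← hY0]
    refine L0.le_map_pPrimeCore (le_iSup (fun a : {a : G // a ∈ E ∧ a ≠ 1} => θ a) ⟨a, ha, h1⟩)
      (le_trans (iSup_le fun b => hpair b b.2.1 b.2.2 a ha h1) (centralizer_le_normalizer _))
      (hodd a)
  have hS' : ∀ t ∈ S, orderOf t = 2 → θ t = ⊥ := by
    intro t htS ht
    have h1 := card_le_sq_centralizer hE (mul_self_of_orderOf_two ht) (hSE htS)
    have hB : IsElementaryAbelian 2 (E ⊓ centralizer {t}) := elemAb_mono hE inf_le_left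
    have h2 : 2 ^ 2 ≤ Nat.card ↥(E ⊓ centralizer {t}) := by
      refine pow_le_card_of_lt (elemAb_pgroup hB) ?_
      by_contra h
      have : Nat.card ↥(E ⊓ centralizer {t}) ^ 2 ≤ 2 ^ 2 :=
        Nat.pow_le_pow_left (by omega) 2
      omega
    rw [eq_bot_iff]
    refine (copAct_of_elemAb hB (hodd t) (inf_le_right.trans (hnorm t))).le_of_elements hB h2
      fun a ha h1 => ?_
    rw [← hθE a ha.1 h1]
    exact hbal t a ht (hord a ha.1 h1) (mem_centralizer_singleton_iff.1 ha.2).symm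
  obtain ⟨T, hT, hle⟩ := exists_isSylowIn_ge (zpowers_pgroup_two ht) (le_top (a := zpowers t))
  obtain ⟨g, -, hg⟩ := hT.exists_cj_eq hS
  have h1 := hS' (g * t * g⁻¹) (hg ▸ conj_mem_cj g (hle (mem_zpowers t)))
    (by rw [orderOf_conj', ht])
  rw [← hcj, cj_eq_bot_iff] at h1
  exact h1

theorem exists_maximalTwoLocal_ge [Finite G] {N : Subgroup G} (h : IsTwoLocal N) :
    ∃ M, IsMaximalTwoLocal M ∧ N ≤ M := by
  obtain ⟨M, ⟨hM, hNM⟩, hmax⟩ := (Finite.to_wellFoundedGT (α := Subgroup G)).wf.has_min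
    {M : Subgroup G | IsTwoLocal M ∧ N ≤ M} ⟨N, h, le_rfl⟩
  refine ⟨M, ⟨hM, fun K hK hMK => ?_⟩, hNM⟩
  by_contra hne
  exact hmax K ⟨hK, hNM.trans hMK⟩ (lt_of_le_of_ne hMK (Ne.symm hne))

theorem IsMaximalTwoLocal_cj {M : Subgroup G} (h : IsMaximalTwoLocal M) (g : G) :
    IsMaximalTwoLocal (cj g M) := by
  have key : ∀ (g : G) (N : Subgroup G), IsTwoLocal N → IsTwoLocal (cj g N) := by
    rintro g N ⟨T, hT, hT1, rfl⟩
    exact ⟨cj g T, pgroup_cj hT g, fun h => hT1 (cj_eq_bot_iff.1 h), cj_normalizer g T⟩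
  refine ⟨key g M h.1, fun N hN hle => ?_⟩
  rw [← h.2 _ (key g⁻¹ N hN) (cj_le_iff.1 hle), cj_cj_inv]

/-- A maximal `2`-local with cyclic `Z(O₂(M))` in a group whose involution centralizers have
characteristic two. -/
theorem exists_involution_of_cyclic [Finite G]
    (hc : ∀ t : G, orderOf t = 2 → centralizer (pCore 2 (centralizer ({t} : Set G)) :
      Set (centralizer ({t} : Set G))) ≤ pCore 2 (centralizer ({t} : Set G)))
    {M : Subgroup G} (hM : IsMaximalTwoLocal M) (hcyc : IsCyclic (center (pCore 2 M))) :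
    ∃ t : G, orderOf t = 2 ∧ M = centralizer {t} ∧ ∀ T, IsSylowIn 2 T M →
      ∀ s ∈ T, orderOf s = 2 → T ≤ centralizer {s} → s = t := by
  have huniq : ∀ x ∈ Op 2 M ⊓ centralizer ((Op 2 M : Subgroup G) : Set G),
      ∀ y ∈ Op 2 M ⊓ centralizer ((Op 2 M : Subgroup G) : Set G),
      orderOf x = 2 → orderOf y = 2 → x = y := by
    have lift : ∀ x ∈ Op 2 M ⊓ centralizer ((Op 2 M : Subgroup G) : Set G), orderOf x = 2 →
        ∃ x' : center (pCore 2 M), ((x' : pCore 2 M) : M) = x ∧ orderOf x' = 2 := by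
      rintro _ ⟨⟨x, hx, rfl⟩, hx'⟩ ho
      refine ⟨⟨⟨x, hx⟩, mem_center_iff.2 fun y => Subtype.ext (Subtype.ext
        (hx' _ (mem_map_of_mem _ y.2)))⟩, rfl, ?_⟩
      rw [← orderOf_coe, ← orderOf_coe, ← orderOf_coe]
      exact ho
    intro x hx y hy hxo hyo
    obtain ⟨x', hx', hxo'⟩ := lift x hx hxo
    obtain ⟨y', hy', hyo'⟩ := lift y hy hyo
    rw [← hx', ← hy', eq_of_orderOf_two_of_isCyclic hxo' hyo']
  obtain ⟨T₀, hT₀, hT₀1, hMT⟩ := hM.1
  have hQ : IsPGroup 2 (Op 2 M) := L0.map_pCore_isPGroup M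
  have hQ1 : Op 2 M ≠ ⊥ := by
    intro h
    apply hT₀1
    rw [eq_bot_iff, ← h]
    exact L0.le_map_pCore (hMT ▸ le_normalizer) hMT.le hT₀
  obtain ⟨t, htQ, ht, htc, -⟩ := H5.exists_mem_centralizer_of_isPGroup hQ hQ le_normalizer hQ1
  have hMn : M ≤ normalizer ((Op 2 M : Subgroup G) : Set G) := L0.le_normalizer_map_pCore M
  have hMC : M ≤ centralizer {t} := by
    intro m hm
    have := huniq (m * t * m⁻¹) ⟨conj_mem_of_le_normalizer hMn hm htQ,
      conj_mem_of_le_normalizer (le_normalizer_centralizer hMn) hm htc⟩ t ⟨htQ, htc⟩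
      (by rw [orderOf_conj', ht]) ht
    rw [mem_centralizer_singleton_iff]
    calc m * t = m * t * m⁻¹ * m := by group
      _ = t * m := by rw [this]
  have hMe : M = centralizer {t} := (hM.2 _ ⟨zpowers t, zpowers_pgroup_two ht,
    zpowers_ne_bot_two ht, (normalizer_zpowers_two ht).symm⟩ hMC).symm
  refine ⟨t, ht, hMe, fun T hT s hs hso hsT => ?_⟩
  have hQT : Op 2 M ≤ T := hT.le_of_le_normalizer hQ (map_subtype_le _) (hT.le.trans hMn)
  have hsc : s ∈ centralizer ((Op 2 M : Subgroup G) : Set G) := fun q hq =>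
    mem_centralizer_singleton_iff.1 (hsT (hQT hq))
  refine huniq s ⟨?_, hsc⟩ t ⟨htQ, htc⟩ hso ht
  have h1 := hc t ht
  rw [← hMe] at h1
  exact ⟨⟨s, hT.le hs⟩, h1 fun q hq => Subtype.ext (hsc _ (mem_map_of_mem _ hq)), rfl⟩

/-- If every maximal `2`-local subgroup is the centralizer of the unique involution in the centre
of its Sylow subgroups, that involution is isolated. -/
theorem isolated_of_maximalTwoLocal [Finite G]
    (h : ∀ M : Subgroup G, IsMaximalTwoLocal M → ∃ t : G, orderOf t = 2 ∧ M = centralizer {t} ∧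
      ∀ T, IsSylowIn 2 T M → ∀ s ∈ T, orderOf s = 2 → T ≤ centralizer {s} → s = t)
    {M : Subgroup G} (hM : IsMaximalTwoLocal M) : ∃ t : G, orderOf t = 2 ∧ H7.Isolated t := by
  have hmem : ∀ {t : G} {T : Subgroup G}, orderOf t = 2 → IsSylowIn 2 T (centralizer {t}) →
      t ∈ T := by
    intro t T ht hT
    refine hT.le_of_le_normalizer (zpowers_pgroup_two ht)
      (zpowers_le.2 (mem_centralizer_singleton_iff.2 rfl)) ?_ (mem_zpowers t)
    rw [normalizer_zpowers_two ht]
    exact hT.le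
  have hsyl : ∀ M T : Subgroup G, IsMaximalTwoLocal M → IsSylowIn 2 T M → IsSylowIn 2 T ⊤ := by
    intro M T hM hT
    obtain ⟨t, ht, hMe, hu⟩ := h M hM
    refine IsSylowIn.of_normalizer le_top (hT.of_le (le_inf le_top (le_normalizer (H := T))) ?_)
    rintro g ⟨-, hg⟩
    have htT : t ∈ T := hmem ht (hMe ▸ hT)
    have hg' : cj g T = T := cj_eq_self hg
    have := hu T hT (g * t * g⁻¹) ((mem_normalizer_iff.1 hg t).1 htT)
      (by rw [orderOf_conj', ht]) (by
        rw [← cj_centralizer_singleton, ← hg']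
        exact cj_mono g (hMe ▸ hT.le))
    rw [hMe, mem_centralizer_singleton_iff]
    calc g * t = g * t * g⁻¹ * g := by group
      _ = t * g := by rw [this]
  have key : ∀ (n : ℕ) (R M₁ M₂ : Subgroup G), Nat.card G - Nat.card R = n → IsPGroup 2 R →
      R ≠ ⊥ → IsMaximalTwoLocal M₁ → IsMaximalTwoLocal M₂ → R ≤ M₁ → R ≤ M₂ → M₁ = M₂ := by
    intro n
    induction n using Nat.strong_induction_on with
    | _ n ih =>
    intro R M₁ M₂ hn hR hR1 h₁ h₂ hle₁ hle₂
    obtain ⟨M₃, h₃, hle₃⟩ := exists_maximalTwoLocal_ge (N := normalizer (R : Set G))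
      ⟨R, hR, hR1, rfl⟩
    have step : ∀ M, IsMaximalTwoLocal M → R ≤ M → M = M₃ := by
      intro M hM hle
      obtain ⟨T, hT, hRT⟩ := exists_isSylowIn_ge hR hle
      by_cases he : R = T
      · subst he
        have hT₃ := (hsyl M R hM hT).of_le (le_normalizer.trans hle₃) le_top
        obtain ⟨t, ht, hMe, hu⟩ := h M hM
        obtain ⟨t₃, ht₃, hMe₃, hu₃⟩ := h M₃ h₃
        rw [hMe, hMe₃, hu₃ R hT₃ t (hmem ht (hMe ▸ hT)) ht (hMe ▸ hle)]
      · have hlt := lt_inf_normalizer_of_pgroup hT.pgroup (lt_of_le_of_ne hRT he)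
        have c1 := card_lt_of_lt hlt
        have c2 : Nat.card ↥(T ⊓ normalizer (R : Set G)) ≤ Nat.card G := card_le_card_group _
        exact ih _ (by omega) _ M M₃ rfl (hT.pgroup.to_le inf_le_left)
          (fun hb => hR1 (le_bot_iff.1 (hb ▸ hlt.le))) hM h₃ (inf_le_left.trans hT.le)
          (inf_le_right.trans hle₃)
    rw [step M₁ h₁ hle₁, step M₂ h₂ hle₂]
  obtain ⟨t, ht, hMe, hu⟩ := h M hM
  refine ⟨t, ht, H7.Isolated.of_commute (mul_self_of_orderOf_two ht) fun g hg => ?_⟩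
  have h1 : cj g M = centralizer {g * t * g⁻¹} := by rw [hMe, cj_centralizer_singleton]
  have h2 : M = cj g M := key _ (zpowers t) M (cj g M) rfl (zpowers_pgroup_two ht)
    (zpowers_ne_bot_two ht) hM (IsMaximalTwoLocal_cj hM g)
    (by rw [hMe]; exact zpowers_le.2 (mem_centralizer_singleton_iff.2 rfl))
    (by rw [h1]; exact zpowers_le.2 (mem_centralizer_singleton_iff.2 hg.eq))
  have ho : orderOf (g * t * g⁻¹) = 2 := by rw [orderOf_conj', ht]
  obtain ⟨T, hT⟩ := exists_isSylowIn 2 M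
  have h3 : M = centralizer {g * t * g⁻¹} := h2.trans h1
  exact hu T hT _ (hmem ho (h3 ▸ hT)) ho (h3 ▸ hT.le)

/-- `Ω₁` of a member of `SCN₃(2)`. -/
theorem exists_elemAb_of_scn [Finite G] {S A : Subgroup G}
    (hSA : S ≤ normalizer (A : Set G)) (hC : S ⊓ centralizer (A : Set G) = A)
    (hA3 : ¬ PRankLE 2 2 A) : ∃ E : Subgroup G, IsElementaryAbelian 2 E ∧ 2 ^ 3 ≤ Nat.card E ∧
      E ≤ A ∧ S ≤ normalizer (E : Set G) ∧ ∀ a ∈ A, a ^ 2 = 1 → a ∈ E := by
  have hc : ∀ a ∈ A, ∀ b ∈ A, a * b = b * a := fun a ha b hb => (hC.ge hb).2 a ha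
  let E : Subgroup G :=
    { carrier := {a | a ∈ A ∧ a ^ 2 = 1}
      mul_mem' := fun {a b} ha hb => ⟨A.mul_mem ha.1 hb.1, by
        rw [(show Commute a b from hc a ha.1 b hb.1).mul_pow, ha.2, hb.2, one_mul]⟩
      one_mem' := ⟨A.one_mem, one_pow 2⟩
      inv_mem' := fun {a} ha => ⟨A.inv_mem ha.1, by rw [inv_pow, ha.2, inv_one]⟩ }
  have hE : IsElementaryAbelian 2 E :=
    elemAb_of (fun a ha b hb => hc a ha.1 b hb.1) fun a ha => ha.2
  refine ⟨E, hE, ?_, fun a ha => ha.1, fun s hs => ?_, fun a ha h2 => ⟨ha, h2⟩⟩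
  · unfold PRankLE at hA3
    push Not at hA3
    obtain ⟨B, -, hB2, hB⟩ := hA3
    refine pow_le_card_of_lt (elemAb_pgroup hE) (hB.trans_le ?_)
    rw [← card_map_of_injective A.subtype_injective]
    refine card_le_of_le ?_
    rintro _ ⟨b, hb, rfl⟩
    exact ⟨b.2, congrArg Subtype.val (hB2 b hb)⟩
  · refine H5.mem_normalizer_of_conj_mem fun y hy =>
      ⟨conj_mem_of_le_normalizer hSA hs hy.1, ?_⟩
    rw [conj_pow, hy.2]; group

end Cfsg.Agent.H4
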