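import Cfsg.Agent.H4.G2a

/-! # The group `G₂` acts on the split octonions: explicit action of the tables -/

set_option autoImplicit false

namespace Cfsg.Agent.H4.G2

open Matrix

theorem mx_tab (F : Type*) [Field F] {a : ℕ → ℕ → ℤ} {A : Fin 8 → Fin 8 → ℤ}
    (h : ∀ x y : Fin 8, a x y = A x y) : mx F a = of fun x y => (A x y : F) := by
  ext x y; simp [mi, h]

/-- evaluate a matrix times a vector -/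
local macro "mv_tac" : tactic => `(tactic| (ext x; fin_cases x <;> simp [mulVec, dotProduct, Fin.sum_univ_eight]))

variable {F : Type*} [Field F]

theorem B2 (v : Fin 8 → F) : mx F (zB 2) *ᵥ v = ![0, 0, 0, 0, 0, 0, v 4, v 5] := by
  rw [mx_tab F (A := ![![0, 0, 0, 0, 0, 0, 0, 0], ![0, 0, 0, 0, 0, 0, 0, 0], ![0, 0, 0, 0, 0, 0, 0, 0], ![0, 0, 0, 0, 0, 0, 0, 0], ![0, 0, 0, 0, 0, 0, 0, 0], ![0, 0, 0, 0, 0, 0, 0, 0], ![0, 0, 0, 0, 1, 0, 0, 0], ![0, 0, 0, 0, 0, 1, 0, 0]]) (by decide +kernel)]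
  mv_tac

theorem B3 (v : Fin 8 → F) : mx F (zB 3) *ᵥ v = ![0, 0, v 5, 0, 0, 0, v 1, 0] := by
  rw [mx_tab F (A := ![![0, 0, 0, 0, 0, 0, 0, 0], ![0, 0, 0, 0, 0, 0, 0, 0], ![0, 0, 0, 0, 0, 1, 0, 0], ![0, 0, 0, 0, 0, 0, 0, 0], ![0, 0, 0, 0, 0, 0, 0, 0], ![0, 0, 0, 0, 0, 0, 0, 0], ![0, 1, 0, 0, 0, 0, 0, 0], ![0, 0, 0, 0, 0, 0, 0, 0]]) (by decide +kernel)]
  mv_tac

theorem B4 (v : Fin 8 → F) : mx F (zB 4) *ᵥ v = ![-v 5, 0, -v 4, v 5, 0, 0, -v 0 + v 3, v 1] := by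
  rw [mx_tab F (A := ![![0, 0, 0, 0, 0, -1, 0, 0], ![0, 0, 0, 0, 0, 0, 0, 0], ![0, 0, 0, 0, -1, 0, 0, 0], ![0, 0, 0, 0, 0, 1, 0, 0], ![0, 0, 0, 0, 0, 0, 0, 0], ![0, 0, 0, 0, 0, 0, 0, 0], ![-1, 0, 0, 1, 0, 0, 0, 0], ![0, 1, 0, 0, 0, 0, 0, 0]]) (by decide +kernel)]
  mv_tac

theorem B5 (v : Fin 8 → F) : mx F (zB 5) *ᵥ v = ![-v 4, v 5, 0, v 4, 0, 0, v 2, v 0 + -v 3] := by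
  rw [mx_tab F (A := ![![0, 0, 0, 0, -1, 0, 0, 0], ![0, 0, 0, 0, 0, 1, 0, 0], ![0, 0, 0, 0, 0, 0, 0, 0], ![0, 0, 0, 0, 1, 0, 0, 0], ![0, 0, 0, 0, 0, 0, 0, 0], ![0, 0, 0, 0, 0, 0, 0, 0], ![0, 0, 1, 0, 0, 0, 0, 0], ![1, 0, 0, -1, 0, 0, 0, 0]]) (by decide +kernel)]
  mv_tac

theorem B6 (v : Fin 8 → F) : mx F (zB 6) *ᵥ v = ![-v 1, 0, v 0 + -v 3, v 1, -v 5, 0, -v 7, 0] := by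
  rw [mx_tab F (A := ![![0, -1, 0, 0, 0, 0, 0, 0], ![0, 0, 0, 0, 0, 0, 0, 0], ![1, 0, 0, -1, 0, 0, 0, 0], ![0, 1, 0, 0, 0, 0, 0, 0], ![0, 0, 0, 0, 0, -1, 0, 0], ![0, 0, 0, 0, 0, 0, 0, 0], ![0, 0, 0, 0, 0, 0, 0, -1], ![0, 0, 0, 0, 0, 0, 0, 0]]) (by decide +kernel)]
  mv_tac

theorem B7 (v : Fin 8 → F) : mx F (zB 7) *ᵥ v = ![0, v 4, 0, 0, 0, 0, 0, -v 2] := by
  rw [mx_tab F (A := ![![0, 0, 0, 0, 0, 0, 0, 0], ![0, 0, 0, 0, 1, 0, 0, 0], ![0, 0, 0, 0, 0, 0, 0, 0], ![0, 0, 0, 0, 0, 0, 0, 0], ![0, 0, 0, 0, 0, 0, 0, 0], ![0, 0, 0, 0, 0, 0, 0, 0], ![0, 0, 0, 0, 0, 0, 0, 0], ![0, 0, -1, 0, 0, 0, 0, 0]]) (by decide +kernel)]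
  mv_tac

theorem B8 (v : Fin 8 → F) : mx F (zB 8) *ᵥ v = ![0, 0, -v 7, 0, v 1, 0, 0, 0] := by
  rw [mx_tab F (A := ![![0, 0, 0, 0, 0, 0, 0, 0], ![0, 0, 0, 0, 0, 0, 0, 0], ![0, 0, 0, 0, 0, 0, 0, -1], ![0, 0, 0, 0, 0, 0, 0, 0], ![0, 1, 0, 0, 0, 0, 0, 0], ![0, 0, 0, 0, 0, 0, 0, 0], ![0, 0, 0, 0, 0, 0, 0, 0], ![0, 0, 0, 0, 0, 0, 0, 0]]) (by decide +kernel)]
  mv_tac

theorem B9 (v : Fin 8 → F) : mx F (zB 9) *ᵥ v = ![v 2, -v 0 + v 3, 0, -v 2, 0, -v 4, 0, -v 6] := by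
  rw [mx_tab F (A := ![![0, 0, 1, 0, 0, 0, 0, 0], ![-1, 0, 0, 1, 0, 0, 0, 0], ![0, 0, 0, 0, 0, 0, 0, 0], ![0, 0, -1, 0, 0, 0, 0, 0], ![0, 0, 0, 0, 0, 0, 0, 0], ![0, 0, 0, 0, -1, 0, 0, 0], ![0, 0, 0, 0, 0, 0, 0, 0], ![0, 0, 0, 0, 0, 0, -1, 0]]) (by decide +kernel)]
  mv_tac

theorem B10 (v : Fin 8 → F) : mx F (zB 10) *ᵥ v = ![v 7, 0, v 6, -v 7, -v 0 + v 3, v 1, 0, 0] := by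
  rw [mx_tab F (A := ![![0, 0, 0, 0, 0, 0, 0, 1], ![0, 0, 0, 0, 0, 0, 0, 0], ![0, 0, 0, 0, 0, 0, 1, 0], ![0, 0, 0, 0, 0, 0, 0, -1], ![-1, 0, 0, 1, 0, 0, 0, 0], ![0, 1, 0, 0, 0, 0, 0, 0], ![0, 0, 0, 0, 0, 0, 0, 0], ![0, 0, 0, 0, 0, 0, 0, 0]]) (by decide +kernel)]
  mv_tac

theorem B11 (v : Fin 8 → F) : mx F (zB 11) *ᵥ v = ![-v 6, v 7, 0, v 6, -v 2, -v 0 + v 3, 0, 0] := by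
  rw [mx_tab F (A := ![![0, 0, 0, 0, 0, 0, -1, 0], ![0, 0, 0, 0, 0, 0, 0, 1], ![0, 0, 0, 0, 0, 0, 0, 0], ![0, 0, 0, 0, 0, 0, 1, 0], ![0, 0, -1, 0, 0, 0, 0, 0], ![-1, 0, 0, 1, 0, 0, 0, 0], ![0, 0, 0, 0, 0, 0, 0, 0], ![0, 0, 0, 0, 0, 0, 0, 0]]) (by decide +kernel)]
  mv_tac

theorem B12 (v : Fin 8 → F) : mx F (zB 12) *ᵥ v = ![0, v 6, 0, 0, 0, v 2, 0, 0] := by
  rw [mx_tab F (A := ![![0, 0, 0, 0, 0, 0, 0, 0], ![0, 0, 0, 0, 0, 0, 1, 0], ![0, 0, 0, 0, 0, 0, 0, 0], ![0, 0, 0, 0, 0, 0, 0, 0], ![0, 0, 0, 0, 0, 0, 0, 0], ![0, 0, 1, 0, 0, 0, 0, 0], ![0, 0, 0, 0, 0, 0, 0, 0], ![0, 0, 0, 0, 0, 0, 0, 0]]) (by decide +kernel)]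
  mv_tac

theorem B13 (v : Fin 8 → F) : mx F (zB 13) *ᵥ v = ![0, 0, 0, 0, v 6, v 7, 0, 0] := by
  rw [mx_tab F (A := ![![0, 0, 0, 0, 0, 0, 0, 0], ![0, 0, 0, 0, 0, 0, 0, 0], ![0, 0, 0, 0, 0, 0, 0, 0], ![0, 0, 0, 0, 0, 0, 0, 0], ![0, 0, 0, 0, 0, 0, 1, 0], ![0, 0, 0, 0, 0, 0, 0, 1], ![0, 0, 0, 0, 0, 0, 0, 0], ![0, 0, 0, 0, 0, 0, 0, 0]]) (by decide +kernel)]
  mv_tac

theorem Q0 : mx F (zG 0) = 0 := mx_zero F (by decide +kernel)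

theorem Q1 : mx F (zG 1) = 0 := mx_zero F (by decide +kernel)

theorem Q2 (v : Fin 8 → F) : mx F (zG 2) *ᵥ v = ![0, 0, 0, 0, 0, 0, v 5, 0] := by
  rw [mx_tab F (A := ![![0, 0, 0, 0, 0, 0, 0, 0], ![0, 0, 0, 0, 0, 0, 0, 0], ![0, 0, 0, 0, 0, 0, 0, 0], ![0, 0, 0, 0, 0, 0, 0, 0], ![0, 0, 0, 0, 0, 0, 0, 0], ![0, 0, 0, 0, 0, 0, 0, 0], ![0, 0, 0, 0, 0, 1, 0, 0], ![0, 0, 0, 0, 0, 0, 0, 0]]) (by decide +kernel)]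
  mv_tac

theorem Q3 (v : Fin 8 → F) : mx F (zG 3) *ᵥ v = ![0, 0, 0, 0, 0, 0, 0, -v 4] := by
  rw [mx_tab F (A := ![![0, 0, 0, 0, 0, 0, 0, 0], ![0, 0, 0, 0, 0, 0, 0, 0], ![0, 0, 0, 0, 0, 0, 0, 0], ![0, 0, 0, 0, 0, 0, 0, 0], ![0, 0, 0, 0, 0, 0, 0, 0], ![0, 0, 0, 0, 0, 0, 0, 0], ![0, 0, 0, 0, 0, 0, 0, 0], ![0, 0, 0, 0, -1, 0, 0, 0]]) (by decide +kernel)]
  mv_tac

theorem Q4 (v : Fin 8 → F) : mx F (zG 4) *ᵥ v = ![0, 0, -v 1, 0, 0, 0, 0, 0] := by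
  rw [mx_tab F (A := ![![0, 0, 0, 0, 0, 0, 0, 0], ![0, 0, 0, 0, 0, 0, 0, 0], ![0, -1, 0, 0, 0, 0, 0, 0], ![0, 0, 0, 0, 0, 0, 0, 0], ![0, 0, 0, 0, 0, 0, 0, 0], ![0, 0, 0, 0, 0, 0, 0, 0], ![0, 0, 0, 0, 0, 0, 0, 0], ![0, 0, 0, 0, 0, 0, 0, 0]]) (by decide +kernel)]
  mv_tac

theorem Q5 : mx F (zG 5) = 0 := mx_zero F (by decide +kernel)

theorem Q6 : mx F (zG 6) = 0 := mx_zero F (by decide +kernel)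

theorem Q7 (v : Fin 8 → F) : mx F (zG 7) *ᵥ v = ![0, -v 2, 0, 0, 0, 0, 0, 0] := by
  rw [mx_tab F (A := ![![0, 0, 0, 0, 0, 0, 0, 0], ![0, 0, -1, 0, 0, 0, 0, 0], ![0, 0, 0, 0, 0, 0, 0, 0], ![0, 0, 0, 0, 0, 0, 0, 0], ![0, 0, 0, 0, 0, 0, 0, 0], ![0, 0, 0, 0, 0, 0, 0, 0], ![0, 0, 0, 0, 0, 0, 0, 0], ![0, 0, 0, 0, 0, 0, 0, 0]]) (by decide +kernel)]
  mv_tac

theorem Q8 (v : Fin 8 → F) : mx F (zG 8) *ᵥ v = ![0, 0, 0, 0, -v 7, 0, 0, 0] := by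
  rw [mx_tab F (A := ![![0, 0, 0, 0, 0, 0, 0, 0], ![0, 0, 0, 0, 0, 0, 0, 0], ![0, 0, 0, 0, 0, 0, 0, 0], ![0, 0, 0, 0, 0, 0, 0, 0], ![0, 0, 0, 0, 0, 0, 0, -1], ![0, 0, 0, 0, 0, 0, 0, 0], ![0, 0, 0, 0, 0, 0, 0, 0], ![0, 0, 0, 0, 0, 0, 0, 0]]) (by decide +kernel)]
  mv_tac

theorem Q9 (v : Fin 8 → F) : mx F (zG 9) *ᵥ v = ![0, 0, 0, 0, 0, v 6, 0, 0] := by
  rw [mx_tab F (A := ![![0, 0, 0, 0, 0, 0, 0, 0], ![0, 0, 0, 0, 0, 0, 0, 0], ![0, 0, 0, 0, 0, 0, 0, 0], ![0, 0, 0, 0, 0, 0, 0, 0], ![0, 0, 0, 0, 0, 0, 0, 0], ![0, 0, 0, 0, 0, 0, 1, 0], ![0, 0, 0, 0, 0, 0, 0, 0], ![0, 0, 0, 0, 0, 0, 0, 0]]) (by decide +kernel)]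
  mv_tac

theorem Q10 : mx F (zG 10) = 0 := mx_zero F (by decide +kernel)

theorem Q11 : mx F (zG 11) = 0 := mx_zero F (by decide +kernel)

theorem L0 (v : Fin 8 → F) : mx F (zL 0) *ᵥ v = ![v 0, v 1, 0, 0, v 4, 0, v 6, 0] := by
  rw [mx_tab F (A := ![![1, 0, 0, 0, 0, 0, 0, 0], ![0, 1, 0, 0, 0, 0, 0, 0], ![0, 0, 0, 0, 0, 0, 0, 0], ![0, 0, 0, 0, 0, 0, 0, 0], ![0, 0, 0, 0, 1, 0, 0, 0], ![0, 0, 0, 0, 0, 0, 0, 0], ![0, 0, 0, 0, 0, 0, 1, 0], ![0, 0, 0, 0, 0, 0, 0, 0]]) (by decide +kernel)]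
  mv_tac

theorem L1 (v : Fin 8 → F) : mx F (zL 1) *ᵥ v = ![v 2, v 3, 0, 0, 0, v 4, 0, v 6] := by
  rw [mx_tab F (A := ![![0, 0, 1, 0, 0, 0, 0, 0], ![0, 0, 0, 1, 0, 0, 0, 0], ![0, 0, 0, 0, 0, 0, 0, 0], ![0, 0, 0, 0, 0, 0, 0, 0], ![0, 0, 0, 0, 0, 0, 0, 0], ![0, 0, 0, 0, 1, 0, 0, 0], ![0, 0, 0, 0, 0, 0, 0, 0], ![0, 0, 0, 0, 0, 0, 1, 0]]) (by decide +kernel)]
  mv_tac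

theorem L2 (v : Fin 8 → F) : mx F (zL 2) *ᵥ v = ![0, 0, v 0, v 1, v 5, 0, v 7, 0] := by
  rw [mx_tab F (A := ![![0, 0, 0, 0, 0, 0, 0, 0], ![0, 0, 0, 0, 0, 0, 0, 0], ![1, 0, 0, 0, 0, 0, 0, 0], ![0, 1, 0, 0, 0, 0, 0, 0], ![0, 0, 0, 0, 0, 1, 0, 0], ![0, 0, 0, 0, 0, 0, 0, 0], ![0, 0, 0, 0, 0, 0, 0, 1], ![0, 0, 0, 0, 0, 0, 0, 0]]) (by decide +kernel)]
  mv_tac

theorem L3 (v : Fin 8 → F) : mx F (zL 3) *ᵥ v = ![0, 0, v 2, v 3, 0, v 5, 0, v 7] := by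
  rw [mx_tab F (A := ![![0, 0, 0, 0, 0, 0, 0, 0], ![0, 0, 0, 0, 0, 0, 0, 0], ![0, 0, 1, 0, 0, 0, 0, 0], ![0, 0, 0, 1, 0, 0, 0, 0], ![0, 0, 0, 0, 0, 0, 0, 0], ![0, 0, 0, 0, 0, 1, 0, 0], ![0, 0, 0, 0, 0, 0, 0, 0], ![0, 0, 0, 0, 0, 0, 0, 1]]) (by decide +kernel)]
  mv_tac

theorem L4 (v : Fin 8 → F) : mx F (zL 4) *ᵥ v = ![v 7, 0, -v 6, 0, v 3, -v 1, 0, 0] := by
  rw [mx_tab F (A := ![![0, 0, 0, 0, 0, 0, 0, 1], ![0, 0, 0, 0, 0, 0, 0, 0], ![0, 0, 0, 0, 0, 0, -1, 0], ![0, 0, 0, 0, 0, 0, 0, 0], ![0, 0, 0, 1, 0, 0, 0, 0], ![0, -1, 0, 0, 0, 0, 0, 0], ![0, 0, 0, 0, 0, 0, 0, 0], ![0, 0, 0, 0, 0, 0, 0, 0]]) (by decide +kernel)]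
  mv_tac

theorem L5 (v : Fin 8 → F) : mx F (zL 5) *ᵥ v = ![0, v 7, 0, -v 6, -v 2, v 0, 0, 0] := by
  rw [mx_tab F (A := ![![0, 0, 0, 0, 0, 0, 0, 0], ![0, 0, 0, 0, 0, 0, 0, 1], ![0, 0, 0, 0, 0, 0, 0, 0], ![0, 0, 0, 0, 0, 0, -1, 0], ![0, 0, -1, 0, 0, 0, 0, 0], ![1, 0, 0, 0, 0, 0, 0, 0], ![0, 0, 0, 0, 0, 0, 0, 0], ![0, 0, 0, 0, 0, 0, 0, 0]]) (by decide +kernel)]
  mv_tac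

theorem L6 (v : Fin 8 → F) : mx F (zL 6) *ᵥ v = ![-v 5, 0, v 4, 0, 0, 0, v 3, -v 1] := by
  rw [mx_tab F (A := ![![0, 0, 0, 0, 0, -1, 0, 0], ![0, 0, 0, 0, 0, 0, 0, 0], ![0, 0, 0, 0, 1, 0, 0, 0], ![0, 0, 0, 0, 0, 0, 0, 0], ![0, 0, 0, 0, 0, 0, 0, 0], ![0, 0, 0, 0, 0, 0, 0, 0], ![0, 0, 0, 1, 0, 0, 0, 0], ![0, -1, 0, 0, 0, 0, 0, 0]]) (by decide +kernel)]
  mv_tac

theorem L7 (v : Fin 8 → F) : mx F (zL 7) *ᵥ v = ![0, -v 5, 0, v 4, 0, 0, -v 2, v 0] := by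
  rw [mx_tab F (A := ![![0, 0, 0, 0, 0, 0, 0, 0], ![0, 0, 0, 0, 0, -1, 0, 0], ![0, 0, 0, 0, 0, 0, 0, 0], ![0, 0, 0, 0, 1, 0, 0, 0], ![0, 0, 0, 0, 0, 0, 0, 0], ![0, 0, 0, 0, 0, 0, 0, 0], ![0, 0, -1, 0, 0, 0, 0, 0], ![1, 0, 0, 0, 0, 0, 0, 0]]) (by decide +kernel)]
  mv_tac

end Cfsg.Agent.H4.G2
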