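import Cfsg.Agent.H5.Extra32
import Cfsg.Agent.H5.Quaternion
import Cfsg.Agent.H4.Quadratic
import Cfsg.Agent.H4.Dihedral
import Cfsg.Agent.WA.TePa

/-! Constrained groups of sectional rank four. -/

set_option autoImplicit false
set_option linter.unusedSectionVars false

namespace Cfsg.Agent.H4.R4

open Subgroup Cfsg.Agent.FT Cfsg.Agent.L0 Cfsg.Agent.H8

universe u

variable {G : Type u} [Group G] [Finite G] {H K M N Q U V W : Subgroup G} {a b c g s t x y z ρ σ : G}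

/-- sectional rank at most four -/
def SR (G : Type u) [Group G] : Prop := ∀ N H : Subgroup G, N ≤ H → (∀ x ∈ H, x * x ∈ N) → #|H| ≤ 16 * #|N|

theorem nrm (hle : N ≤ H) (h : ∀ x ∈ H, x * x ∈ N) : H ≤ 𝐍(N) := fun g hg => H9.mem_normalizer_of_conj_mem fun n hn => by
  simpa using mul_mem (H9.comm_mem_of_sq_mem h hg (hle hn)) hn

theorem sr_of (h : SectionalPRankLE 2 4 G) : SR G := fun N H hle hs => by
  have : (N.subgroupOf H).Normal := (normal_subgroupOf_iff_le_normalizer hle).2 (nrm hle hs)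
  have k : ∀ a : H ⧸ N.subgroupOf H, a ^ 2 = 1 := fun a => by
    induction a using QuotientGroup.induction_on with | H a =>
    rw [← QuotientGroup.mk_pow, QuotientGroup.eq_one_iff, pow_two]
    exact hs a a.2
  have := h H (N.subgroupOf H) ⊤ (H9.isElementaryAbelian_two_iff.2 fun a _ => k a).1 fun a _ => k a
  rw [card_eq_card_quotient_mul_card_subgroup (N.subgroupOf H), card_subgroupOf_of_le hle]
  exact Nat.mul_le_mul_right _ (card_top (G := H ⧸ N.subgroupOf H) ▸ this)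

theorem SR.quo (h : SR G) (K : Subgroup G) [K.Normal] : SR (G ⧸ K) := fun N H hle hs => by
  have := h (N.comap (QuotientGroup.mk' K)) (H.comap (QuotientGroup.mk' K)) (comap_mono hle) fun x hx => hs _ hx
  rw [card_comap_of_surjective _ (QuotientGroup.mk'_surjective K), card_comap_of_surjective _ (QuotientGroup.mk'_surjective K),
    mul_left_comm] at this
  exact Nat.le_of_mul_le_mul_left this Nat.card_pos

theorem card_quo [K.Normal] (h : K ≤ H) : #|H| = #|K| * #|H.map (QuotientGroup.mk' K)| := by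
  have := card_comap_of_surjective _ (QuotientGroup.mk'_surjective K) (H.map (QuotientGroup.mk' K))
  rwa [comap_map_eq_self ((QuotientGroup.ker_mk' K).le.trans h), QuotientGroup.ker_mk'] at this

theorem zp {p : ℕ} (h : σ ^ p = 1) : IsPGroup p (zpowers σ) := H9.isPGroup_zpowers ⟨1, by rwa [pow_one]⟩

theorem cmod {p : ℕ} [Fact p.Prime] (h : σ ^ p = 1) (hn : σ ∈ 𝐍(H)) : #|H| ≡ #|(H ⊓ 𝐂[σ] : Subgroup G)| [MOD p] :=
  centralizer_zpowers σ ▸ H5.card_modEq_card_inf_centralizer (zp h) (zpowers_le.2 hn)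

theorem lp {p : ℕ} [Fact p.Prime] (hp : p.Coprime 2) (hH : IsPGroup 2 H) (hle : M ≤ H) (h : σ ^ p = 1) (h1 : σ ∈ 𝐍(M))
    (h2 : σ ∈ 𝐍(H)) (h3 : H ⊓ 𝐂[σ] ≤ M) : ∃ j, #|H| = 2 ^ j * #|M| ∧ 2 ^ j ≡ 1 [MOD p] := by
  have := Fact.mk Nat.prime_two
  obtain ⟨a, ha⟩ := hH.exists_card_eq
  obtain ⟨b, hb⟩ := (hH.to_le hle).exists_card_eq
  have k := card_le_of_le hle
  rw [ha, hb, Nat.pow_le_pow_iff_right one_lt_two] at k
  have e : #|H| = 2 ^ (a - b) * #|M| := by rw [ha, hb, ← pow_add, Nat.sub_add_cancel k]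
  refine ⟨_, e, Nat.ModEq.cancel_right_of_coprime (c := #|M|) (hb ▸ hp.pow_right b) ?_⟩
  rw [← e, one_mul]
  exact (cmod h h2).trans (le_antisymm (le_inf h3 inf_le_right) (inf_le_inf_right _ hle) ▸ (cmod h h1).symm)

theorem nC : σ ∈ 𝐍(𝐂[σ]) := le_normalizer (mem_centralizer_singleton_iff.2 rfl)

theorem l5 (hH : IsPGroup 2 H) (hle : N ≤ H) (h16 : #|H| ≤ 16 * #|N|) (h : σ ^ 5 = 1) (h1 : σ ∈ 𝐍(N)) (h2 : σ ∈ 𝐍(H)) :
    N ⊔ H ⊓ 𝐂[σ] = H ∨ #|H| = 16 * #|N| ∧ H ⊓ 𝐂[σ] ≤ N := by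
  have := Fact.mk Nat.prime_five
  have k := sup_le hle (inf_le_left : H ⊓ 𝐂[σ] ≤ H)
  obtain ⟨j, e, hj⟩ := lp (by norm_num) hH k h (le_normalizer_sup (zpowers_le.2 h1)
    (le_normalizer_inf (zpowers_le.2 h2) (zpowers_le.2 nC)) (mem_zpowers σ)) h2 le_sup_right
  have k1 := card_le_of_le (le_sup_left : N ≤ N ⊔ H ⊓ 𝐂[σ])
  have k2 : 0 < #|N| := Nat.card_pos
  have : j ≤ 4 := (Nat.pow_le_pow_iff_right one_lt_two).1 (by nlinarith)
  interval_cases j <;> try exact absurd hj (by decide)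
  · exact Or.inl (eq_of_le_of_card_ge k (by omega))
  · exact Or.inr ⟨by omega, le_sup_right.trans (eq_of_le_of_card_ge le_sup_left (by omega)).ge⟩

theorem half (hV : ∀ v ∈ V, v * v = 1) (ht : t ∈ 𝐍(V)) (t2 : t * t ∈ 𝐂(V)) :
    ⁅V, zpowers t⁆ ≤ V ⊓ 𝐂[t] ∧ #|⁅V, zpowers t⁆| * #|(V ⊓ 𝐂[t] : Subgroup G)| = #|V| ∧
      ∀ x ∈ ⁅V, zpowers t⁆, ∃ v ∈ V, v * (t * v * t⁻¹) = x := by
  have hc := (H9.isElementaryAbelian_two_iff.2 fun a ha => (pow_two a).trans (hV a ha)).1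
  have k : ∀ x ∈ ⁅V, zpowers t⁆, ∃ v ∈ V, v * (t * v * t⁻¹) = x := fun x hx => by
    obtain ⟨v, hv, rfl⟩ := (mem_commutator_zpowers_iff hc ht).1 hx
    exact ⟨v, hv, by rw [commutatorElement_def, inv_eq_of_mul_self (hV v hv)]; group⟩
  refine ⟨fun x hx => ?_, centralizer_zpowers t ▸ card_commutator_zpowers_mul_card_centralizer hc ht, k⟩
  obtain ⟨v, hv, rfl⟩ := k x hx
  have k1 := (mem_normalizer_iff.1 ht v).1 hv
  refine ⟨mul_mem hv k1, mem_centralizer_singleton_iff.2 ?_⟩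
  calc _ = t * v * t⁻¹ * (v * t * t) * t⁻¹ := by rw [comm_of_mem hc hv k1]; group
    _ = _ := by rw [mul_assoc v, mem_centralizer_iff.1 t2 v hv]; group

theorem fr (hV : ∀ v ∈ V, v * v = 1) (h16 : #|V| = 16) (ht : t ∈ 𝐍(V)) (hσ : σ ∈ 𝐍(V)) (t2 : t * t ∈ 𝐂(V)) (h5 : σ ^ 5 = 1)
    (hi : t * σ * t⁻¹ * σ ∈ 𝐂(V)) (hf : V ⊓ 𝐂[σ] = ⊥) :
    #|(V ⊓ 𝐂[t] : Subgroup G)| = 4 ∧ ∀ x ∈ V ⊓ 𝐂[t], ∃ v ∈ V, v * (t * v * t⁻¹) = x := by
  obtain ⟨h1, h2, h3⟩ := half hV ht t2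
  have h4 := H9.card_mul_card_le_of_disjoint (A := V ⊓ 𝐂[t]) (B := cj σ (V ⊓ 𝐂[t])) inf_le_left
    (cj_le_of_mem_normalizer hσ inf_le_left) (eq_bot_iff.2 fun x hx => hf.le ⟨hx.1.1, by
      have k : ∀ g, g ∈ 𝐂[x] ↔ x ∈ 𝐂[g] := fun g => by simp only [mem_centralizer_singleton_iff, eq_comm]
      have k1 : σ * t * σ⁻¹ ∈ 𝐂[x] := (k _).2 (cj_centralizer_singleton σ t ▸ cj_mono σ inf_le_right hx.2)
      have k2 := pow_mem (mul_mem (mul_mem k1 (inv_mem ((k t).2 hx.1.2)))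
        (show _ ∈ 𝐂[x] from mem_centralizer_singleton_iff.2 (mem_centralizer_iff.1 hi x hx.1.1).symm)) 3
      rw [show σ * t * σ⁻¹ * t⁻¹ * (t * σ * t⁻¹ * σ) = σ * σ by group, show (σ * σ) ^ 3 = σ * σ ^ 5 by rw [← pow_two]; group, h5,
        mul_one] at k2
      exact (k σ).1 k2⟩)
  have h6 := card_le_of_le h1
  rw [card_cj, h16] at *
  have h7 : #|(V ⊓ 𝐂[t] : Subgroup G)| = 4 := by nlinarith
  exact ⟨h7, fun x hx => h3 x ((eq_of_le_of_card_ge h1 (by rw [h7] at h2 ⊢; omega)).ge hx)⟩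

theorem nN [N.Normal] : g ∈ 𝐍(N) := (normalizer_eq_top N).ge (mem_top g)

theorem cop {p : ℕ} [Fact p.Prime] (hp : 2 ≠ p) (h : σ ^ p = 1) (hQ : IsPGroup 2 Q) (hn : σ ∈ 𝐍(Q)) : CopAct (zpowers σ) Q :=
  have := Fact.mk Nat.prime_two
  CopAct.of_pgroup (zp h) (not_dvd_card_of_pgroup hp hQ) (zpowers_le.2 hn)

theorem mapC {p : ℕ} [Fact p.Prime] (hp : 2 ≠ p) (h : σ ^ p = 1) (hQ : IsPGroup 2 Q) (hn : σ ∈ 𝐍(Q)) {G' : Type*} [Group G']
    (f : G →* G') : Q.map f ⊓ 𝐂[f σ] = (Q ⊓ 𝐂[σ]).map f := by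
  rw [← centralizer_zpowers, ← centralizer_zpowers, ← MonoidHom.map_zpowers, (cop hp h hQ hn).map_inf_centralizer']

theorem sqm [U.Normal] (h : ∀ x ∈ Q, x * x ∈ U) : ∀ v ∈ Q.map (QuotientGroup.mk' U), v * v = 1 := by
  rintro _ ⟨x, hx, rfl⟩
  exact (map_mul _ x x).symm.trans ((QuotientGroup.eq_one_iff _).2 (h x hx))

theorem cen (hV : ∀ v ∈ V, v * v = 1) : V ≤ 𝐂(V) :=
  comm_iff_le_centralizer.1 (H9.isElementaryAbelian_two_iff.2 fun a ha => (pow_two a).trans (hV a ha)).1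

theorem two (hn : s ∈ 𝐍(W)) (s2 : s * s ∈ W) (hx : x ∈ W ⊔ zpowers s) : x ∈ W ∨ ∃ w ∈ W, x = w * s := by
  obtain ⟨w, hw, k, rfl⟩ := (H5.mem_sup_zpowers hn).1 hx
  have := fun j : ℤ => mul_mem hw (zpow_mem s2 j)
  rcases Int.even_or_odd' k with ⟨j, rfl | rfl⟩
  · exact Or.inl (by rw [zpow_mul, zpow_two]; exact this j)
  · exact Or.inr ⟨_, this j, by rw [zpow_add_one, zpow_mul, zpow_two, mul_assoc]⟩

theorem case1 (hS : SR G) [Q.Normal] [U.Normal] (hQ : IsPGroup 2 Q) (hU : U ≤ Q) (sQ : ∀ x ∈ Q, x * x ∈ U)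
    (sU : ∀ x ∈ U, x * x = 1) (cQ : #|Q| = 16 * #|U|) (cU : #|U| = 16) (h5 : σ ^ 5 = 1) (hf : Q ⊓ 𝐂[σ] = ⊥) (t2 : t * t ∈ Q)
    (hi : t * σ * t⁻¹ * σ ∈ Q) : False := by
  have := Fact.mk Nat.prime_two
  have := Fact.mk Nat.prime_five
  have hf' : ∀ M ≤ U, M ⊓ 𝐂[σ] = ⊥ := fun M h => eq_bot_iff.2 ((inf_le_inf_right _ (h.trans hU)).trans hf.le)
  have hc : Q ≤ 𝐂(U) := by
    rcases l5 (N := ⊥) (H := U ⊓ 𝐂(Q)) (hQ.to_le (inf_le_left.trans hU)) bot_le (by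
      rw [card_bot, ← cU, mul_one]; exact card_le_of_le inf_le_left) h5 nN nN with h | h
    · rw [hf' _ inf_le_left, bot_sup_eq] at h
      exact (inf_centralizer_ne_bot_of_isPGroup (hQ.to_le hU) hQ (fun _ _ => nN) (by rintro rfl; simp at cU) h.symm).elim
    · exact le_centralizer_iff.1 ((eq_of_le_of_card_ge inf_le_left (by rw [h.1, cU, card_bot])).ge.trans inf_le_right)
  let π := QuotientGroup.mk' U
  have c1 := card_quo hU
  have hV := sqm sQ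
  obtain ⟨h1, h2⟩ := fr (t := π t) (σ := π σ) hV (by rw [cQ, cU] at c1; omega) nN nN (cen hV ⟨_, t2, map_mul _ _ _⟩)
    (by rw [← map_pow, h5, map_one]) (cen hV ⟨_, hi, by simp only [map_mul, map_inv]; rfl⟩) (by rw [mapC (by norm_num) h5 hQ nN, hf, Subgroup.map_bot])
  obtain ⟨_, ⟨q, hq, rfl⟩, e⟩ := h2 (π (t * t)) ⟨⟨_, t2, rfl⟩, mem_centralizer_singleton_iff.2 (by simp [mul_assoc])⟩
  have h3 : q * t * (q * t) ∈ U := (QuotientGroup.eq_one_iff _).1 (by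
    rw [← hV _ ⟨_, t2, rfl⟩]
    nth_rw 1 [← e]
    simp [π, mul_assoc])
  have h4 : q * t * σ * (q * t)⁻¹ * σ ∈ Q := by
    have := mul_mem (mul_mem hq hi) ((inferInstance : Q.Normal).conj_mem' _ (inv_mem hq) σ)
    convert this using 1; group
  have h6 : Q.map π ⊓ 𝐂[π t] ≤ 𝐂[π (q * t)] := fun v hv => mem_centralizer_singleton_iff.2 (by
    rw [map_mul, ← mul_assoc, mem_centralizer_iff.1 (cen hV ⟨q, hq, rfl⟩) v hv.1, mul_assoc,
      mem_centralizer_singleton_iff.1 hv.2, mul_assoc])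
  have h7 : π (q * t) ∈ 𝐍((Q.map π ⊓ 𝐂[π t] : Subgroup _)) := H9.mem_normalizer_of_conj_mem fun v hv => by
    rwa [← mem_centralizer_singleton_iff.1 (h6 hv), mul_inv_cancel_right]
  generalize q * t = s at h3 h4 h6 h7
  have h8 := (fr sU cU nN nN (hc (hU h3)) h5 (hc h4) (hf' U le_rfl)).1
  set W := (Q.map π ⊓ 𝐂[π t]).comap π
  have cW : #|W| = 64 := by rw [card_comap_of_surjective _ (QuotientGroup.mk'_surjective U), h1, QuotientGroup.ker_mk', cU]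
  have WQ : W ≤ Q := (comap_mono inf_le_left).trans (comap_map_eq_self ((QuotientGroup.ker_mk' U).le.trans hU)).le
  have hW : ∀ w ∈ W, s * w * s⁻¹ * w⁻¹ ∈ U := fun w hw => (QuotientGroup.eq_one_iff _).1 (by
    have := mem_centralizer_singleton_iff.1 (h6 hw)
    change π _ = 1
    rw [map_mul, map_mul, map_mul, ← this]; simp)
  have hs : s ∉ W := fun h => by
    have k1 : σ * σ ∈ Q := by
      have := mul_mem (mul_mem ((inferInstance : Q.Normal).conj_mem _ (WQ h) σ) (inv_mem (WQ h))) h4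
      convert this using 1; group
    have k2 : σ ∈ Q := by
      have := pow_mem k1 3
      rwa [show (σ * σ) ^ 3 = σ * σ ^ 5 by rw [← pow_two]; group, h5, mul_one] at this
    rw [show U = ⊥ from (hf' U le_rfl) ▸ (inf_eq_left.2 (le_centralizer_singleton_iff.2 (hc k2))).symm, card_bot] at cU
    omega
  have UW : U ≤ W := fun u hu => by rw [mem_comap, show π u = 1 from (QuotientGroup.eq_one_iff _).2 hu]; exact one_mem _
  have h9 := hS (U ⊓ 𝐂[s]) (W ⊔ zpowers s) (inf_le_left.trans (le_sup_of_le_left UW)) (fun x hx => by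
    rcases two (le_normalizer_comap π h7) (UW h3) hx with hw | ⟨w, hw, rfl⟩
    · refine ⟨sQ x (WQ hw), mem_centralizer_singleton_iff.2 ?_⟩
      have k := mem_centralizer_iff.1 (hc (WQ hw)) _ (hW x hw)
      calc x * x * s = s * x * s⁻¹ * x⁻¹ * (s * x * s⁻¹ * x⁻¹) * x * x * s := by rw [sU _ (hW x hw), one_mul]
        _ = s * x * s⁻¹ * x⁻¹ * (s * x * s⁻¹ * x⁻¹ * x) * x * s := by group
        _ = _ := by rw [k]; group
    · have k : w * s * (w * s) ∈ U := by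
        have := mul_mem (mul_mem ((inferInstance : U.Normal).conj_mem _ (hW w hw) w) (sQ w (WQ hw))) h3
        convert this using 1; group
      refine ⟨k, mem_centralizer_singleton_iff.2 (mul_left_cancel (a := w) ?_)⟩
      rw [← mul_assoc w _ s, ← mem_centralizer_iff.1 (hc (WQ hw)) _ k]; group)
  have := card_lt_of_lt (lt_of_le_of_ne (le_sup_left : W ≤ W ⊔ zpowers s) fun e => hs (e.ge (mem_sup_right (mem_zpowers s))))
  omega

end Cfsg.Agent.H4.R4
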