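import Cfsg.Agent.H6.Invol
import Cfsg.Agent.H6.FewA

/-!
# Groups whose Sylow `p`-normalizer is dihedral of order `2p`: the principal block
-/

set_option autoImplicit false
set_option linter.unusedSectionVars false

namespace Cfsg.Agent.H4

open Finset Subgroup Cfsg.Agent.L0 Cfsg.Agent.H6 MulAction
open scoped ComplexConjugate Classical

variable {p : ℕ} {G : Type*} [Group G] [Finite G]

/-- `φ = ∑ n ζ • ζ` -/
def Dec (φ : G → ℂ) (n : IrrCharacter G → ℕ) : Prop := ∀ g, φ g = ∑ ζ, (n ζ : ℂ) * ζ.1 g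

theorem exists_dec {φ : G → ℂ} (h : IsCharacter G φ) : ∃ n, Dec φ n := by
  have := Fintype.ofFinite G
  obtain ⟨n, -, h2⟩ := IsCharacter.exists_eq_sum_nsmul h
  refine ⟨n, fun g => ?_⟩
  rw [h2, Finset.sum_apply]
  simp

namespace Dec

variable {φ : G → ℂ} {n : IrrCharacter G → ℕ}

theorem inner [Fintype G] (h : Dec φ n) (ζ : IrrCharacter G) : classInner φ ζ.1 = n ζ := by
  rw [← classInner_sum_smul_irr (fun ζ => (n ζ : ℂ)) ζ]
  congr 1
  ext g
  rw [h g, Finset.sum_apply]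
  simp

theorem deg_eq' (h : Dec φ n) {d : ℕ} (hd : φ 1 = d) : ∑ ζ, n ζ * deg ζ = d := by
  have := h 1
  rw [hd] at this
  simp only [deg_eq] at this
  exact_mod_cast this.symm

theorem eq_ind (h : Dec φ n) {d : ℕ} (hd : φ 1 = d) (T : Finset (IrrCharacter G))
    (hT : ∀ ζ ∈ T, 1 ≤ n ζ) (hle : d ≤ ∑ ζ ∈ T, deg ζ) (ζ : IrrCharacter G) :
    n ζ = if ζ ∈ T then 1 else 0 := by
  have h1 : ∀ ζ, (if ζ ∈ T then 1 else 0) * deg ζ ≤ n ζ * deg ζ := fun ζ =>
    Nat.mul_le_mul_right _ (by split_ifs with h; exacts [hT ζ h, Nat.zero_le _])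
  have h2 : ∑ ζ, (if ζ ∈ T then 1 else 0) * deg ζ = ∑ ζ ∈ T, deg ζ := by simp
  have h3 := (sum_eq_sum_iff_of_le (s := univ) fun ζ _ => h1 ζ).mp
    (le_antisymm (sum_le_sum fun ζ _ => h1 ζ) (by rw [h2, h.deg_eq' hd]; exact hle)) ζ (mem_univ _)
  exact (Nat.eq_of_mul_eq_mul_right (deg_pos ζ) h3).symm

theorem eq_sum (h : Dec φ n) {d : ℕ} (hd : φ 1 = d) (T : Finset (IrrCharacter G))
    (hT : ∀ ζ ∈ T, 1 ≤ n ζ) (hle : d ≤ ∑ ζ ∈ T, deg ζ) (g : G) : φ g = ∑ ζ ∈ T, ζ.1 g := by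
  rw [h g]
  simp [h.eq_ind hd T hT hle]

theorem sum_le (h : Dec φ n) {d : ℕ} (hd : φ 1 = d) (T : Finset (IrrCharacter G)) :
    ∑ ζ ∈ T, n ζ * deg ζ ≤ d := by
  rw [← h.deg_eq' hd]
  exact sum_le_sum_of_subset (subset_univ _)

end Dec

/-- the permutation character -/
noncomputable def pc (Ω : Type*) [MulAction G Ω] (g : G) : ℂ := (fixedBy Ω g).ncard

theorem isChar_pc (Ω : Type*) [Finite Ω] [MulAction G Ω] : IsCharacter G (pc Ω) :=
  isCharacter_perm Ω

theorem pc_one (Ω : Type*) [MulAction G Ω] : pc Ω (1 : G) = (Nat.card Ω : ℕ) := by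
  rw [pc, fixedBy_one_eq_univ, Set.ncard_univ]

theorem Dec.one_le_pc {Ω : Type*} [Finite Ω] [Nonempty Ω] [MulAction G Ω] {n : IrrCharacter G → ℕ}
    (h : Dec (pc Ω) n) : 1 ≤ n (irrOne G) := by
  have := Fintype.ofFinite G
  have h1 := h.inner (irrOne G)
  rw [irrOne_val, classInner_one_right] at h1
  by_contra h2
  rw [show n (irrOne G) = 0 by omega, Nat.cast_zero, mul_eq_zero] at h1
  rcases h1 with h1 | h1
  · exact natCard_ne_zero G (inv_eq_zero.mp h1)
  · simp only [pc] at h1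
    have h3 : ∑ g : G, (fixedBy Ω g).ncard = 0 := by exact_mod_cast h1
    have h4 := sum_eq_zero_iff.mp h3 1 (mem_univ _)
    rw [fixedBy_one_eq_univ, Set.ncard_univ] at h4
    exact Nat.card_pos.ne' h4

variable [hp : Fact p.Prime]

theorem norm_le_of_sum (D : Setup p G) {φ : G → ℂ} (hφ : IsCharacter G φ) {μ : ℕ}
    (h : ∑ i, φ (D.xp i) = p * μ) {y : G} (hy : y ∈ normalizer (zpowers D.x : Set G))
    (hc : y ∉ centralizer ({D.x} : Set G)) : ‖φ y‖ ≤ μ := by
  have := Fintype.ofFinite G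
  set N := normalizer (zpowers D.x : Set G)
  have : ((zpowers D.x).subgroupOf N).Normal := normal_in_normalizer
  have h1 := norm_sum_le_of_normal ((zpowers D.x).subgroupOf N)
    (IsCharacter.restrict hφ N) ⟨y, hy⟩
  have h2 : ∀ f : G → ℂ, ∑ u : (zpowers D.x).subgroupOf N, f u = ∑ i, f (D.xp i) := fun f => by
    rw [← D.sum_zpowers]
    exact Fintype.sum_equiv (subgroupOfEquivOfLe le_normalizer).toEquiv _ _ fun _ => rfl
  simp only [Subgroup.coe_mul] at h1
  rw [h2 (fun u => φ (u * y)), h2, h, sum_congr rfl fun i _ => by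
    obtain ⟨j, hj⟩ := D.exists_conj_mul hy hc i
    rw [← hj, IsCharacter.isClassFunction hφ], sum_const, card_univ, ZMod.card, nsmul_eq_mul,
    norm_mul, Complex.norm_natCast, ← Nat.cast_mul, Complex.natCast_re, Nat.cast_mul] at h1
  exact le_of_mul_le_mul_left h1 (Nat.cast_pos.mpr hp.out.pos)

theorem pc_xp (D : Setup p G) {Ω : Type*} [MulAction G Ω] [IsPretransitive G Ω]
    (hΩ : p ∣ Nat.card Ω) {i : ZMod p} (hi : i ≠ 0) : pc Ω (D.xp i) = 0 := by
  rw [pc, Nat.cast_eq_zero, (Set.eq_empty_iff_forall_notMem (s := fixedBy Ω (D.xp i))).mpr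
    fun ω hω => ?_, Set.ncard_empty]
  apply D.not_sq_dvd
  rw [← card_mul_card_stabilizer ω, sq]
  refine Nat.mul_dvd_mul hΩ ?_
  rw [← D.orderOf_xp hi]
  exact orderOf_dvd_natCard _ (show D.xp i ∈ stabilizer G ω from hω)

/-- the data of a group with Sylow `p`-normalizer of order `2p` -/
structure TP (p : ℕ) [Fact p.Prime] (G : Type*) [Group G] [Finite G] where
  D : Setup p G
  B : Brauer D
  hp3 : 3 < p
  hK : D.K = ⊥
  hA : ∀ a, a ∈ D.A ↔ a = 1 ∨ a = -1
  cA : Nat.card D.A = 2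
  χ : IrrCharacter G
  hS : B.S = {irrOne G, χ}
  hχ : χ ≠ irrOne G
  t : G
  tt : t * t = 1
  tx : t * D.x * t⁻¹ = D.x⁻¹

theorem exists_tp (hG : commutator G = ⊤) (hp3 : 3 < p) (P : Sylow p G) (hd : p ∣ Nat.card G)
    (hN : Nat.card (normalizer ((P : Subgroup G) : Set G)) = 2 * p) : Nonempty (TP p G) := by
  obtain ⟨k, hk⟩ := P.isPGroup'.exists_card_eq
  have h1 : Nat.card (P : Subgroup G) ∣ 2 * p := hN ▸ card_dvd_of_le le_normalizer
  have h2 : Nat.card (P : Subgroup G) = p := by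
    rw [hk] at h1 ⊢
    have h3 : p ^ k ∣ p := (Nat.Coprime.pow_left k
      ((Nat.coprime_primes hp.out Nat.prime_two).mpr (by omega))).dvd_of_dvd_mul_left h1
    rcases (Nat.dvd_prime hp.out).mp h3 with h | h
    · exact absurd (eq_bot_of_card_eq _ (hk.trans h)) (P.ne_bot_of_dvd_card hd)
    · exact h
  obtain ⟨x, hx, hP⟩ := exists_zpowers_of_card_prime h2
  have h3 : ¬ p ^ 2 ∣ Nat.card G := fun h => P.not_dvd_index (by
    rw [← (P : Subgroup G).card_mul_index, h2, sq] at h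
    exact Nat.dvd_of_mul_dvd_mul_left hp.out.pos h)
  obtain ⟨D, rfl⟩ := exists_setup hx h3
  obtain ⟨B⟩ := D.nonempty_brauer
  have h4 := D.card_N
  rw [← hP, hN] at h4
  have h5 := B.two_le_card_A hG
  have h6 : 0 < Nat.card D.K := Nat.card_pos
  have h7 : 2 = Nat.card D.A * Nat.card D.K :=
    Nat.eq_of_mul_eq_mul_left hp.out.pos (by rw [mul_comm p, h4]; ring)
  have hA : Nat.card D.A = 2 := by nlinarith
  have hK : D.K = ⊥ := eq_bot_of_card_eq _ (by rw [hA] at h7; omega)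
  have h8 : ∀ a ∈ D.A, a = 1 ∨ a = -1 := fun a ha => by
    have h9 : (⟨a, ha⟩ : D.A) ^ 2 = 1 := by rw [← hA]; exact pow_card_eq_one'
    have h10 : (a : ZMod p) * a = 1 := by
      rw [← Units.val_mul, ← sq]; exact congrArg (fun b : D.A => ((b : (ZMod p)ˣ) : ZMod p)) h9
    rcases mul_self_eq_one_iff.mp h10 with h | h
    · exact Or.inl (Units.ext h)
    · exact Or.inr (Units.ext h)
  have h9 : -1 ∈ D.A := by
    by_contra h
    have : D.A = ⊥ := eq_bot_iff.mpr fun a ha => (h8 a ha).resolve_right fun e => h (e ▸ ha)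
    rw [this, card_bot] at hA
    omega
  obtain ⟨t, ht⟩ := isConj_iff.mp ((D.hA _).mp h9)
  have ht' : t * D.x * t⁻¹ = D.xp (-1) := ht
  have h10 := B.card_S
  rw [hA] at h10
  obtain ⟨χ, hχ, hχ1⟩ := exists_mem_ne (s := B.S) (by omega) (irrOne G)
  refine ⟨⟨D, B, hp3, hK, fun a => ⟨h8 a, fun h => h.elim (fun h => h ▸ one_mem _) (fun h => h ▸ h9)⟩,
    hA, χ, ?_, hχ1, t, ?_, by rw [ht', D.xp_neg, D.xp_one]⟩⟩
  · symm
    refine eq_of_subset_of_card_le (fun ζ hζ => ?_) (by rw [card_pair hχ1.symm, h10])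
    rcases mem_insert.mp hζ with h | h
    · exact h ▸ B.one_mem
    · exact mem_singleton.mp h ▸ hχ
  · have h11 : t * t ∈ centralizer ({D.x} : Set G) := mem_centralizer_singleton_iff.mpr (by
      have := D.conj_xp ht' (-1)
      rw [← ht', neg_mul_neg, one_mul, D.xp_one] at this
      calc t * t * D.x = t * (t * D.x * t⁻¹) * t⁻¹ * (t * t) := by group
        _ = _ := by rw [this])
    rw [D.centralizer_eq_iff.mpr hK] at h11
    obtain ⟨i, hi⟩ := D.exists_xp h11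
    have h12 := D.conj_xp ht' i
    rw [hi, show t * (t * t) * t⁻¹ = t * t by group, ← hi, D.xp_injective.eq_iff] at h12
    have h13 : (2 : ZMod p) * i = 0 := by linear_combination h12
    have h14 : (2 : ZMod p) ≠ 0 := fun h => by
      have := (ZMod.natCast_eq_zero_iff 2 p).mp (by exact_mod_cast h)
      exact absurd (Nat.le_of_dvd two_pos this) (by omega)
    rw [← hi, (mul_eq_zero.mp h13).resolve_left h14, D.xp_zero]

theorem dd_dec (D : Setup p G) {φ : G → ℂ} {n : IrrCharacter G → ℕ} (h : Dec φ n) (b : ZMod p) :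
    D.dd φ b = ∑ ζ, (n ζ : ℂ) * D.d ζ b := by
  have h1 : ∀ ζ : IrrCharacter G, (D.d ζ b : ℂ) = D.dd ζ.1 b := fun ζ =>
    (D.exists_int_dd (IsIrrCharacter.isCharacter ζ.2) b).choose_spec.symm
  simp only [h1, Setup.dd, h _, sum_mul, mul_sum]
  rw [sum_comm]
  exact sum_congr rfl fun _ _ => sum_congr rfl fun _ _ => by ring

theorem dd_of_sum (D : Setup p G) {φ : G → ℂ} (e : ZMod p → ℂ)
    (h : ∀ i ≠ 0, φ (D.xp i) = ∑ c, e c * ee (c * i)) (b : ZMod p) : D.dd φ b = e b - e 0 := by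
  have h1 : ∀ i, φ (D.xp i) * (ee (-(i * b)) - 1) =
      ∑ c, e c * (ee (i * (c - b)) - ee (i * c)) := fun i => by
    by_cases hi : i = 0
    · simp [hi]
    · rw [h i hi, sum_mul]
      refine sum_congr rfl fun c _ => ?_
      rw [mul_assoc, mul_sub (ee _), ← ee_add, mul_one, mul_comm c i]
      congr 3; ring
  rw [Setup.dd]
  simp only [h1]
  rw [sum_comm]
  simp only [← mul_sum, sum_sub_distrib, sum_ee, sub_eq_zero]
  simp only [sum_sub_distrib, mul_sub, mul_ite, mul_zero, sum_ite_eq', mem_univ, if_true]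
  have := p_ne_zero (p := p)
  field_simp

namespace TP

variable (T : TP p G)

/-- the degree of the non-exceptional character -/
noncomputable abbrev m : ℕ := deg T.χ

/-- an exceptional character -/
noncomputable abbrev θ : IrrCharacter G := T.B.c 1

theorem χ_mem : T.χ ∈ T.B.S := by simp [T.hS]

theorem sum_S {M : Type*} [AddCommMonoid M] (f : IrrCharacter G → M) :
    ∑ ζ ∈ T.B.S, f ζ = f (irrOne G) + f T.χ := by rw [T.hS, sum_pair T.hχ.symm]

theorem card_Q : 2 * Fintype.card ((ZMod p)ˣ ⧸ T.D.A) + 1 = p := by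
  have := T.D.card_A_mul_index
  rw [T.cA, index, Nat.card_eq_fintype_card] at this
  have := hp.out.pos
  omega

theorem rel {φ : G → ℂ} {n : IrrCharacter G → ℕ} (h : Dec φ n) (b : (ZMod p)ˣ) :
    T.D.dd φ b = -((n (irrOne G) + T.B.δ T.χ * n T.χ + T.B.δ0 * n (T.B.c b) : ℤ) : ℂ) := by
  rw [dd_dec T.D h, ← sum_subset (subset_univ (prinBlk p G)) fun ζ _ hζ => by
    have := T.D.d_of_const (c := 0) (fun i hi => T.D.apply_eq_zero_of_K_eq_bot T.hK hζ hi) b.ne_zero
    rw [this, neg_zero, mul_zero]]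
  simp only [mul_comm (n _ : ℂ)]
  rw [T.B.sum_d_mul (fun ζ => (n ζ : ℂ)), sum_S, T.B.δ_one]
  push_cast
  ring

theorem rel0 {φ : G → ℂ} {n : IrrCharacter G → ℕ} (h : Dec φ n)
    (h0 : ∀ i ≠ 0, φ (T.D.xp i) = 0) (q : (ZMod p)ˣ ⧸ T.D.A) :
    (n (irrOne G) + T.B.δ T.χ * n T.χ + T.B.δ0 * n (T.B.c q) : ℤ) = 0 := by
  have h1 := T.rel h q.out
  rw [dd_of_sum T.D 0 (fun i hi => by simp [h0 i hi]), QuotientGroup.out_eq'] at h1
  simp only [Pi.zero_apply, sub_self, zero_eq_neg] at h1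
  exact_mod_cast h1

theorem deg_le {φ : G → ℂ} {n : IrrCharacter G → ℕ} (h : Dec φ n) {d : ℕ} (hd : φ 1 = d) :
    n (irrOne G) + n T.χ * T.m + ∑ q, n (T.B.c q) * T.B.f0 ≤ d := by
  have := h.sum_le hd (prinBlk p G)
  rw [T.B.sum_blk, sum_S, deg_irrOne, mul_one] at this
  simpa only [T.B.deg_c] using this

theorem eqn (q : (ZMod p)ˣ ⧸ T.D.A) {g : G} (hg : ¬ p ∣ orderOf g) :
    1 + T.B.δ T.χ * T.χ.1 g + T.B.δ0 * (T.B.c q).1 g = 0 := by
  have := T.B.eqn q hg
  rwa [sum_S, T.B.δ_one, Int.cast_one, one_mul, irrOne_apply] at this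

theorem deg_eqn : 1 + T.B.δ T.χ * T.m + T.B.δ0 * T.B.f0 = 0 := by
  have := T.B.deg_eqn
  rwa [sum_S, T.B.δ_one, one_mul, deg_irrOne, Nat.cast_one] at this

include T in
theorem two_ne : (2 : ZMod p) ≠ 0 := fun h => by
  have := (ZMod.natCast_eq_zero_iff 2 p).mp (by exact_mod_cast h)
  exact absurd (Nat.le_of_dvd two_pos this) (by have := T.hp3; omega)

theorem x_ne_inv : T.D.x⁻¹ ≠ T.D.x := fun h => by
  rw [← T.D.xp_one, ← T.D.xp_neg, T.D.xp_injective.eq_iff] at h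
  exact T.two_ne (by linear_combination -h)

theorem t_mem : T.t ∈ normalizer (zpowers T.D.x : Set G) :=
  T.D.mem_normalizer_iff_conj.mpr (T.tx ▸ inv_mem (mem_zpowers _))

theorem t_not_mem : T.t ∉ centralizer ({T.D.x} : Set G) := fun h => T.x_ne_inv (by
  rw [← T.tx, mem_centralizer_singleton_iff.mp h, mul_inv_cancel_right])

theorem t_ne : T.t ≠ 1 := fun h => T.t_not_mem (h ▸ one_mem _)

include T in
theorem not_dvd_of_mul_self {u : G} (hu : u * u = 1) : ¬ p ∣ orderOf u := fun h => by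
  have := Nat.le_of_dvd two_pos (h.trans (orderOf_dvd_of_pow_eq_one ((sq u).trans hu)))
  have := T.hp3
  omega

include T in
theorem five_le : 5 ≤ p := by
  have := T.hp3
  have h : p ≠ 4 := fun h => by have := hp.out; rw [h] at this; norm_num at this
  omega

include T in
theorem odd : p % 2 = 1 := by have := T.card_Q; omega

/-- the number of fixed points of `t` -/
theorem fix_t {Ω : Type*} [Finite Ω] [MulAction G Ω] [IsPretransitive G Ω]
    (hΩ : Nat.card Ω = 3 * p) : (fixedBy Ω T.t).ncard = 1 ∨ (fixedBy Ω T.t).ncard = 3 := by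
  have h1 := norm_le_of_sum T.D (isChar_pc Ω) (μ := 3) (by
    rw [← add_sum_erase _ _ (mem_univ 0), T.D.xp_zero, pc_one, sum_eq_zero fun i hi =>
      pc_xp T.D (hΩ ▸ dvd_mul_left _ _) (ne_of_mem_erase hi), hΩ]
    push_cast; ring) T.t_mem T.t_not_mem
  rw [pc, Complex.norm_natCast, Nat.cast_le] at h1
  have : Fact (Nat.Prime 2) := ⟨Nat.prime_two⟩
  have h2 := ncard_fixedBy_modEq (Ω := Ω) (p := 2) (n := 1) (x := T.t) (by rw [pow_one, sq, T.tt])
  rw [hΩ, Nat.ModEq] at h2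
  have := T.odd
  omega

theorem caseA (hG : commutator G = ⊤) {Ω : Type*} [Finite Ω] [MulAction G Ω] [IsPretransitive G Ω]
    (hΩ : Nat.card Ω = 3 * p) : T.B.δ T.χ = -1 ∧ T.B.δ0 = 1 := by
  have h1 := T.deg_eqn
  have h2 := two_le_deg hG T.hχ
  have h3 : 0 < T.B.f0 := deg_pos _
  rcases T.B.hδ _ T.χ_mem with h4 | h4 <;> rcases T.B.hδ0 with h5 | h5 <;> rw [h4, h5] at h1
  · unfold m at h1; omega
  · exfalso
    have h6 := T.B.dvd_deg_sub T.χ_mem
    rw [h4, one_mul] at h6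
    have h7 := Int.le_of_dvd (by omega) h6
    have : Nonempty Ω := (Nat.card_pos_iff.mp (by have := T.hp3; omega)).1
    obtain ⟨n, hn⟩ := exists_dec (isChar_pc (G := G) Ω)
    have h8 := fun q => T.rel0 hn (fun i hi => pc_xp T.D (hΩ ▸ dvd_mul_left _ _) hi) q
    simp only [h4, h5] at h8
    have h9 := hn.one_le_pc
    have hd : pc Ω (1 : G) = (3 * p : ℕ) := by rw [pc_one, hΩ]
    let X := insert (irrOne G) (univ.image T.B.c)
    have hX : ∀ f : IrrCharacter G → ℂ, ∑ ζ ∈ X, f ζ = f (irrOne G) + ∑ q, f (T.B.c q) := fun f => by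
      rw [sum_insert (by simpa using T.B.c_ne_one), sum_image fun _ _ _ _ h => T.B.inj h]
    have hX' : ∑ ζ ∈ X, deg ζ = 1 + Fintype.card ((ZMod p)ˣ ⧸ T.D.A) * T.B.f0 := by
      rw [sum_insert (by simpa using T.B.c_ne_one), sum_image fun _ _ _ _ h => T.B.inj h, deg_irrOne]
      simp [T.B.deg_c]
    have hn1 : ∀ ζ ∈ X, 1 ≤ n ζ := fun ζ hζ => by
      rcases mem_insert.mp hζ with rfl | h
      · exact h9
      · obtain ⟨q, -, rfl⟩ := mem_image.mp h
        have := h8 q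
        omega
    have h10 : ∑ ζ ∈ X, deg ζ ≤ 3 * p :=
      (sum_le_sum fun ζ hζ => Nat.le_mul_of_pos_left _ (hn1 ζ hζ)).trans (hn.sum_le hd X)
    have h11 := T.card_Q
    have h12 := T.five_le
    rw [hX'] at h10
    generalize hr : Fintype.card ((ZMod p)ˣ ⧸ T.D.A) = r at h10 h11 hX'
    have h13 : p + 2 ≤ T.B.f0 := by unfold m at h1; omega
    have h14 : r = 2 := by nlinarith
    subst h14
    have h15 : T.B.f0 = 7 := by omega
    have h16 := hn.eq_sum hd X hn1 (by rw [hX']; omega) T.t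
    have h17 := T.not_dvd_of_mul_self T.tt
    obtain ⟨a, ha, h18, -⟩ := exists_int_four_dvd hG T.χ T.tt
    have h19 : ∀ q, (T.B.c q).1 T.t = 1 + a := fun q => by
      have := T.eqn q h17
      rw [h4, h5, ha] at this
      push_cast at this
      linear_combination -this
    rw [hX] at h16
    simp only [h19, sum_const, card_univ, hr, irrOne_apply, pc] at h16
    have h20 : ((fixedBy Ω T.t).ncard : ℤ) = 1 + 2 * (1 + a) := by
      apply Int.cast_injective (α := ℂ); push_cast; rw [h16, two_nsmul]; ring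
    have := T.fix_t hΩ
    unfold m at h1
    omega
  · exact ⟨h4, h5⟩
  · unfold m at h1; omega

end TP

end Cfsg.Agent.H4
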