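import Cfsg.Agent.H4.TP1

/-!
# Groups whose Sylow `p`-normalizer is dihedral of order `2p`: involutions and the order formula
-/

set_option autoImplicit false
set_option linter.unusedSectionVars false

namespace Cfsg.Agent.H4

open Finset Subgroup Cfsg.Agent.L0 Cfsg.Agent.H6 MulAction
open scoped ComplexConjugate Classical

variable {p : ℕ} {G : Type*} [Group G] [Finite G] [hp : Fact p.Prime]

/-- the case in which the non-exceptional character is at the centre of the tree -/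
structure TA (p : ℕ) [Fact p.Prime] (G : Type*) [Group G] [Finite G] extends TP p G where
  hδ : B.δ χ = -1
  hδ0 : B.δ0 = 1
  simple : IsSimpleGroup G
  perf : commutator G = ⊤

namespace TA

variable (T : TA p G)

theorem f0_eq : T.B.f0 + 1 = T.m := by
  have := T.deg_eqn
  rw [T.hδ, T.hδ0] at this
  omega

theorem two_le : 2 ≤ T.m := two_le_deg T.perf T.hχ

theorem dvd_m : p ∣ T.m + 1 := by
  have h := T.B.dvd_deg_sub T.χ_mem
  rw [T.hδ, ← dvd_neg] at h
  have : ((T.m + 1 : ℕ) : ℤ) = -(-1 * (deg T.χ : ℤ) - 1) := by push_cast; ring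
  rwa [← this, Int.natCast_dvd_natCast] at h

theorem val_c (q : (ZMod p)ˣ ⧸ T.D.A) {g : G} (hg : ¬ p ∣ orderOf g) :
    (T.B.c q).1 g = T.χ.1 g - 1 := by
  have := T.eqn q hg
  rw [T.hδ, T.hδ0] at this
  push_cast at this
  linear_combination this

theorem val_χ {g : G} (hg : p ∣ orderOf g) : T.χ.1 g = -1 := by
  rw [T.B.val_S_of_dvd T.χ_mem hg, T.hδ]; simp

theorem sum_c {g : G} (hg : p ∣ orderOf g) : ∑ q, (T.B.c q).1 g = 1 := by
  obtain ⟨i, hi, k, hk, h⟩ := T.D.exists_conj_of_dvd hg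
  rw [T.hK, mem_bot] at hk
  rw [hk, one_mul] at h
  simp only [fun q => IsClassFunction.eq_of_isConj (irr_isClass (T.B.c q)) h]
  rw [T.B.sum_val_c hi, T.hδ0, Int.cast_one]

theorem exists_int (g : G) : ∃ a : ℤ, T.χ.1 g = a := by
  refine Sieve.exists_int_of_unique (T.B.S_mem T.χ_mem) (fun ψ hψ h => ?_) g
  have h1 := T.f0_eq
  have h2 := T.two_le
  rcases (T.B.mem_iff ψ).mp hψ with h3 | ⟨q, rfl⟩
  · rw [T.hS] at h3
    rcases mem_insert.mp h3 with rfl | h3
    · rw [deg_irrOne] at h; unfold TP.m at h2; omega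
    · exact mem_singleton.mp h3
  · rw [T.B.deg_c] at h; unfold TP.m at h1; omega

/-- the values of `χ` -/
noncomputable def v (g : G) : ℤ := (T.exists_int g).choose

theorem v_eq (g : G) : T.χ.1 g = T.v g := (T.exists_int g).choose_spec

theorem v_one : T.v 1 = T.m := by
  have := (T.v_eq 1).symm.trans (deg_eq _)
  exact_mod_cast this

theorem v_ne {g : G} (hg : g ≠ 1) : T.v g ≠ T.m := fun h => by
  have := T.simple
  exact ne_deg_of_ne_one T.hχ hg (by rw [T.v_eq, h]; simp)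

theorem v_conj {a b : G} (h : IsConj a b) : T.v a = T.v b := by
  have := IsClassFunction.eq_of_isConj (irr_isClass T.χ) h
  rw [T.v_eq, T.v_eq] at this
  exact_mod_cast this

theorem v_inv (g : G) : T.v g⁻¹ = T.v g := by
  have := IsCharacter.apply_inv (irr_isChar T.χ) g
  rw [T.v_eq, T.v_eq, map_intCast] at this
  exact_mod_cast this

theorem four_dvd {s : G} (hs : s * s = 1) : (4 : ℤ) ∣ T.m - T.v s := by
  obtain ⟨a, h1, h2, -⟩ := exists_int_four_dvd T.perf T.χ hs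
  rw [T.v_eq, Int.cast_inj] at h1
  rwa [h1]

theorem abs_v_t {μ : ℕ} (h : T.m + 1 = p * (μ + 1)) : |T.v T.t| ≤ μ := by
  have h1 := T.D.norm_le_m0 T.χ T.t_mem T.t_not_mem
  have h2 := T.B.m0_S T.χ_mem
  rw [T.hδ] at h2
  have h3 : (p : ℤ) * T.D.m0 T.χ = p * μ := by
    have : (T.m : ℤ) + 1 = p * (μ + 1) := by exact_mod_cast h
    rw [h2]; linear_combination this
  have h4 : T.D.m0 T.χ = μ := by
    exact_mod_cast mul_left_cancel₀ (Int.natCast_ne_zero.mpr hp.out.ne_zero) h3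
  rw [T.v_eq, Complex.norm_intCast, h4] at h1
  exact_mod_cast h1

theorem exists_of_inverts {u : G} (h : u * T.D.x * u⁻¹ = T.D.x⁻¹) : ∃ i, u = T.D.xp i * T.t := by
  have h1 : u * T.t⁻¹ ∈ centralizer ({T.D.x} : Set G) := mem_centralizer_singleton_iff.mpr (by
    have h2 : T.t⁻¹ * T.D.x * T.t = T.D.x⁻¹ := by
      rw [← T.tx, inv_eq_of_mul_eq_one_right T.tt]
    calc u * T.t⁻¹ * T.D.x = u * (T.t⁻¹ * T.D.x * T.t) * T.t⁻¹ := by group
      _ = (u * T.D.x * u⁻¹)⁻¹ * (u * T.t⁻¹) := by rw [h2]; group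
      _ = _ := by rw [h, inv_inv])
  rw [T.D.centralizer_eq_iff.mpr T.hK] at h1
  obtain ⟨i, hi⟩ := T.D.exists_xp h1
  exact ⟨i, by rw [hi, inv_mul_cancel_right]⟩

theorem isConj_xp_mul (i : ZMod p) : IsConj T.t (T.D.xp i * T.t) := by
  obtain ⟨j, hj⟩ := T.D.exists_conj_mul T.t_mem T.t_not_mem i
  exact isConj_iff.mpr ⟨_, hj⟩

theorem mul_self_of_isConj {s u : G} (hs : s * s = 1) (h : IsConj s u) : u * u = 1 := by
  obtain ⟨c, rfl⟩ := isConj_iff.mp h
  rw [show c * s * c⁻¹ * (c * s * c⁻¹) = c * (s * s) * c⁻¹ by group, hs]; group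

theorem inverts {u w : G} (hu : u * u = 1) (hw : w * w = 1) : u * (u * w) * u⁻¹ = (u * w)⁻¹ := by
  rw [← mul_assoc, hu, one_mul, mul_inv_rev, inv_eq_of_mul_eq_one_right hw]

theorem pairs {s : G} (hs : s * s = 1) :
    (Nat.card {a : G × G // IsConj s a.1 ∧ IsConj s a.2 ∧ a.1 * a.2 = T.D.x} : ℂ) *
      (Nat.card G * (T.m * (T.m - 1))) =
      ((centralizer ({s} : Set G)).index : ℂ) ^ 2 * (T.m - T.v s) ^ 2 := by
  have hx : p ∣ orderOf T.D.x := T.D.hx.symm.dvd
  have h1 := T.not_dvd_of_mul_self hs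
  have h2 : (T.B.f0 : ℂ) = T.m - 1 := by rw [← T.f0_eq]; simp
  have h3 : (T.m : ℂ) ≠ 0 := Nat.cast_ne_zero.mpr (deg_pos _).ne'
  have h4 : (T.m : ℂ) - 1 ≠ 0 := h2 ▸ Nat.cast_ne_zero.mpr (deg_pos _).ne'
  have h5 := natCard_ne_zero G
  rw [card_class_mul_eq, ← sum_subset (subset_univ (prinBlk p G)) fun ζ _ hζ => by
    rw [← T.D.xp_one, T.D.apply_eq_zero_of_K_eq_bot T.hK hζ one_ne_zero]; simp,
    T.B.sum_blk, T.sum_S]
  simp only [T.val_c _ h1, deg_eq, T.B.deg_c, h2, irrOne_apply, T.val_χ hx, T.v_eq s]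
  rw [← sum_div, ← mul_sum, ← map_sum, T.sum_c hx]
  simp only [map_one, map_neg]
  unfold TP.m at *
  field_simp
  ring

theorem conj_t {s : G} (hs : s * s = 1) (h1 : s ≠ 1) : IsConj T.t s := by
  have h2 := T.pairs hs
  have h3 : Nat.card {a : G × G // IsConj s a.1 ∧ IsConj s a.2 ∧ a.1 * a.2 = T.D.x} ≠ 0 := fun h => by
    rw [h, Nat.cast_zero, zero_mul, eq_comm, mul_eq_zero, pow_eq_zero_iff two_ne_zero,
      pow_eq_zero_iff two_ne_zero, Nat.cast_eq_zero, sub_eq_zero] at h2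
    rcases h2 with h2 | h2
    · exact index_ne_zero_of_finite h2
    · exact T.v_ne h1 (by exact_mod_cast h2.symm)
  obtain ⟨⟨u, w⟩, h4, h5, h6⟩ := (Nat.card_ne_zero.mp h3).1
  have h7 := inverts (mul_self_of_isConj hs h4) (mul_self_of_isConj hs h5)
  rw [h6] at h7
  obtain ⟨i, hi⟩ := T.exists_of_inverts h7
  exact (T.isConj_xp_mul i).trans (hi ▸ h4.symm)

/-- the order of the centralizer of an involution -/
noncomputable abbrev c : ℕ := Nat.card (centralizer ({T.t} : Set G))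

/-- the number of involutions -/
noncomputable abbrev i : ℕ := (centralizer ({T.t} : Set G)).index

theorem c_mul_i : T.c * T.i = Nat.card G := card_mul_index _

theorem order : (T.i : ℤ) * (T.m - T.v T.t) ^ 2 = p * (T.c * (T.m * (T.m - 1))) := by
  have h1 := T.pairs T.tt
  have h2 : Nat.card {a : G × G // IsConj T.t a.1 ∧ IsConj T.t a.2 ∧ a.1 * a.2 = T.D.x} = p := by
    refine (Eq.trans (Nat.card_zmod p).symm ?_).symm
    have h3 : ∀ i, T.D.xp i * T.t * (T.D.xp (i - 1) * T.t) = T.D.x := fun i => by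
      rw [← T.D.xp_one]
      calc T.D.xp i * T.t * (T.D.xp (i - 1) * T.t) =
          T.D.xp 1 * (T.D.xp (i - 1) * T.t * (T.D.xp (i - 1) * T.t)) := by
            rw [← mul_assoc (T.D.xp 1), ← mul_assoc (T.D.xp 1), ← T.D.xp_add, add_sub_cancel]
        _ = _ := by rw [mul_self_of_isConj T.tt (T.isConj_xp_mul _), mul_one]
    refine Nat.card_congr (Equiv.ofBijective (fun i => ⟨(T.D.xp i * T.t, T.D.xp (i - 1) * T.t),
      T.isConj_xp_mul _, T.isConj_xp_mul _, h3 i⟩) ⟨fun i j h => ?_, ?_⟩)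
    · exact T.D.xp_injective (mul_right_cancel (congrArg (fun a => a.1.1) h))
    · rintro ⟨⟨u, w⟩, h4, h5, h6⟩
      have h7 := inverts (mul_self_of_isConj T.tt h4) (mul_self_of_isConj T.tt h5)
      rw [h6] at h7
      obtain ⟨i, hi⟩ := T.exists_of_inverts h7
      obtain rfl : u = _ := hi
      exact ⟨i, Subtype.ext (Prod.ext rfl (mul_left_cancel ((h3 i).trans h6.symm)))⟩
  rw [h2, ← T.c_mul_i] at h1
  have h3 : (T.i : ℂ) ≠ 0 := Nat.cast_ne_zero.mpr index_ne_zero_of_finite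
  apply Int.cast_injective (α := ℂ)
  apply mul_left_cancel₀ h3
  push_cast at h1 ⊢
  linear_combination -h1

theorem odd_i : T.i % 2 = 1 := by
  have hd : 2 ∣ Nat.card G := by
    rw [← orderOf_eq_prime ((sq _).trans T.tt) T.t_ne]; exact orderOf_dvd_natCard _
  obtain ⟨z, h1, h2⟩ := exists_central_in_sylow Nat.prime_two hd
  have h3 := T.conj_t ((sq z).symm.trans (h1 ▸ pow_orderOf_eq_one z))
    (fun h => by rw [h, orderOf_one] at h1; omega)
  have h4 := card_centralizer_eq_of_isConj h3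
  have h5 : T.i = (centralizer ({z} : Set G)).index :=
    Nat.eq_of_mul_eq_mul_left (Nat.card_pos (α := centralizer ({T.t} : Set G)))
      (by rw [T.c_mul_i, h4, card_mul_index])
  omega

/-- a transitive action of degree divisible by `p` -/
theorem m_lt {Ω : Type*} [Finite Ω] [Nonempty Ω] [MulAction G Ω] [IsPretransitive G Ω]
    (hΩ : p ∣ Nat.card Ω) : T.m + 1 ≤ Nat.card Ω := by
  obtain ⟨n, hn⟩ := exists_dec (isChar_pc (G := G) Ω)
  have h1 := T.rel0 hn (fun i hi => pc_xp T.D hΩ hi) 1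
  have h2 := hn.one_le_pc
  have h3 := T.deg_le hn (pc_one Ω)
  rw [T.hδ, T.hδ0] at h1
  have h4 : 1 ≤ n T.χ := by omega
  nlinarith [Nat.zero_le (∑ q, n (T.B.c q) * T.B.f0)]

end TA

end Cfsg.Agent.H4
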