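import Cfsg.Agent.H4.TP2
import Cfsg.Agent.H9.Basic

/-!
# Groups whose Sylow `p`-normalizer is dihedral of order `2p`: the case `χ(1) = p - 1`
-/

set_option autoImplicit false
set_option linter.unusedSectionVars false

namespace Cfsg.Agent.H4

open Finset Subgroup Cfsg.Agent.L0 Cfsg.Agent.H6 MulAction
open scoped ComplexConjugate Classical

variable {p : ℕ} {G : Type*} [Group G] [Finite G] [hp : Fact p.Prime]

theorem sum_irr_eq_zero [Fintype G] {ζ : IrrCharacter G} (h : ζ ≠ irrOne G) : ∑ g, ζ.1 g = 0 := by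
  have := classInner_irr ζ (irrOne G)
  rw [if_neg h, irrOne_val, classInner_one_right, mul_eq_zero] at this
  exact this.resolve_left (inv_ne_zero (natCard_ne_zero G))

namespace TA

variable (T : TA p G)

theorem v_le (g : G) : T.v g ≤ T.m := by
  have := IsCharacter.norm_le (irr_isChar T.χ) g
  rw [T.v_eq, deg_eq, Complex.norm_intCast, Complex.norm_natCast] at this
  have h : |T.v g| ≤ T.m := by exact_mod_cast this
  exact (le_abs_self _).trans h

theorem θ_xp {i : ZMod p} (hi : i ≠ 0) : T.θ.1 (T.D.xp i) = -(ee i + ee (-i)) := by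
  have h1 : (1 : (ZMod p)ˣ) ≠ -1 := fun h => T.two_ne (by
    have := congrArg Units.val h
    rw [Units.val_neg, Units.val_one] at this
    linear_combination this)
  rw [T.B.val_c _ hi, T.hδ0, show (univ.filter fun b : (ZMod p)ˣ => (b : (ZMod p)ˣ ⧸ T.D.A) = 1) =
    {1, -1} by ext b; simp [QuotientGroup.eq_one_iff, T.hA], sum_pair h1]
  simp

theorem sq_rel (hm : T.m + 1 = p) {g : G} (hg : ¬ p ∣ orderOf g) :
    (T.v g - 1) ^ 2 - (T.v (g ^ 2) - 1) = (p - 3) * (T.v g - 1) := by
  obtain ⟨n, hn⟩ := exists_dec (IsCharacter.altSq (irr_isChar T.θ))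
  have h2 := T.two_ne
  have h4 : (2 : ZMod p) ≠ -2 := fun h => mul_ne_zero h2 h2 (by linear_combination h)
  let e : ZMod p → ℂ := fun c => (if c = 0 then 1 else 0) + (if c = 2 then 1 else 0) +
    if c = -2 then 1 else 0
  have he : ∀ b, T.D.dd (fun g => (T.θ.1 g ^ 2 - T.θ.1 (g ^ 2)) / 2) b = e b - e 0 :=
    dd_of_sum T.D e fun i hi => by
      have h5 : T.D.xp i ^ 2 = T.D.xp (2 * i) := by rw [sq, ← T.D.xp_add, two_mul]
      have h6 : ee i * ee (-i) = 1 := by rw [← ee_add, add_neg_cancel, ee_zero]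
      simp only [e, add_mul, sum_add_distrib, ite_mul, one_mul, zero_mul, sum_ite_eq', mem_univ,
        if_true, ee_zero]
      rw [h5, T.θ_xp hi, T.θ_xp (mul_ne_zero h2 hi), neg_mul, two_mul, neg_add i i, ee_add, ee_add]
      linear_combination h6
  have he0 : e 0 = 1 := by simp [e, h2.symm, h2]
  let u : (ZMod p)ˣ := Units.mk0 2 h2
  have h5 := T.rel hn u
  rw [he, he0, T.hδ, T.hδ0, show e u = 1 by simp [e, u, h2, h4], sub_self, zero_eq_neg,
    Int.cast_eq_zero] at h5
  have h6 : ∀ q, q ≠ (u : (ZMod p)ˣ ⧸ T.D.A) → 1 ≤ n (T.B.c q) := fun q hq => by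
    have h7 := T.rel hn q.out
    have h8 : e q.out = 0 := by
      have h9 : ((q.out : (ZMod p)ˣ) : ZMod p) ≠ 2 := fun h => hq (by
        rw [← QuotientGroup.out_eq' q, show q.out = u from Units.ext h])
      have h10 : ((q.out : (ZMod p)ˣ) : ZMod p) ≠ -2 := fun h => hq (by
        rw [← QuotientGroup.out_eq' q, show q.out = u * -1 from Units.ext (by simpa [u] using h),
          QuotientGroup.mk_mul_of_mem _ ((T.hA _).mpr (Or.inr rfl))])
      simp [e, h9, h10]
    rw [he, he0, h8, T.hδ, T.hδ0, QuotientGroup.out_eq', zero_sub, neg_inj] at h7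
    have h9 : (1 : ℤ) = n (irrOne G) + -1 * n T.χ + 1 * n (T.B.c q) := by exact_mod_cast h7
    omega
  have h7 := T.card_Q
  have h8 := T.f0_eq
  have h9 := T.five_le
  obtain ⟨r, hr⟩ : ∃ r, Fintype.card ((ZMod p)ˣ ⧸ T.D.A) = r + 1 := ⟨_, (Nat.sub_add_cancel (by omega)).symm⟩
  have h10 : T.B.f0 = 2 * r + 1 := by omega
  let X := (univ.erase (u : (ZMod p)ˣ ⧸ T.D.A)).image T.B.c
  have hX : ∀ {M : Type} [AddCommMonoid M] (f : IrrCharacter G → M) (a : M), (∀ q, f (T.B.c q) = a) →
      ∑ ζ ∈ X, f ζ = r • a := fun f a h => by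
    rw [sum_image fun _ _ _ _ h => T.B.inj h, sum_congr rfl fun q _ => h q, sum_const,
      card_erase_of_mem (mem_univ _), card_univ, hr, Nat.add_sub_cancel]
  have h11 := hn.eq_sum (d := r * T.B.f0) (by
    simp only [one_pow, deg_eq, T.B.deg_c, h10]; push_cast; ring) X (fun ζ hζ => by
      obtain ⟨q, hq, rfl⟩ := mem_image.mp hζ
      exact h6 q (ne_of_mem_erase hq)) (by rw [hX deg _ T.B.deg_c, smul_eq_mul]) g
  have hg2 : ¬ p ∣ orderOf (g ^ 2) := fun h => hg (h.trans (orderOf_pow_dvd 2))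
  rw [hX _ _ fun q => T.val_c q hg] at h11
  simp only [T.val_c _ hg, T.val_c _ hg2, T.v_eq, nsmul_eq_mul] at h11
  have h12 : (p : ℂ) = 2 * r + 3 := by rw [← h7, hr]; push_cast; ring
  apply Int.cast_injective (α := ℂ)
  push_cast
  rw [h12]
  linear_combination 2 * h11

theorem sum_reg [Fintype G] :
    (p : ℤ) * ∑ g, (if p ∣ orderOf g then 0 else T.v g - 1) = -Nat.card G := by
  have h1 : ∀ g, (p : ℂ) * ((if p ∣ orderOf g then 0 else T.v g - 1 : ℤ) : ℂ) =
      T.χ.1 g + 2 * ∑ q, (T.B.c q).1 g - 1 := fun g => by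
    split_ifs with h
    · rw [T.val_χ h, T.sum_c h]; norm_num
    · simp only [T.val_c _ h, T.v_eq, sum_const, card_univ, nsmul_eq_mul]
      have : (p : ℂ) = 2 * Fintype.card ((ZMod p)ˣ ⧸ T.D.A) + 1 := by exact_mod_cast T.card_Q.symm
      rw [this]; push_cast; ring
  apply Int.cast_injective (α := ℂ)
  rw [Int.cast_mul, Int.cast_sum, mul_sum, Int.cast_natCast]
  simp only [h1, sum_sub_distrib, sum_add_distrib, ← mul_sum]
  rw [sum_comm, sum_irr_eq_zero T.hχ, sum_eq_zero fun q _ => sum_irr_eq_zero (T.B.c_ne_one q)]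
  simp

theorem caseI (hm : T.m + 1 = p) :
    T.c = T.m ∧ T.i = p * (T.m - 1) ∧ ∀ y, y * T.t = T.t * y → y ≠ 1 → IsConj T.t y := by
  have := Fintype.ofFinite G
  have h0 : T.v T.t = 0 := by
    have := T.abs_v_t (μ := 0) (by omega)
    simpa using this
  have hm' : (p : ℤ) = T.m + 1 := by exact_mod_cast hm.symm
  have h2 := T.two_le
  let f : G → ℤ := fun g => if p ∣ orderOf g then 0 else T.v g - 1
  let h : G → ℤ := fun g => (if g = 1 then (T.m : ℤ) - 1 else 0) - if IsConj T.t g then 1 else 0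
  have hle : ∀ g, h g ≤ f g := fun g => by
    simp only [f, h]
    by_cases h1 : g = 1
    · subst h1
      rw [if_pos rfl, if_neg Setup.one_not_dvd, T.v_one]
      split_ifs <;> omega
    · rw [if_neg h1]
      by_cases h3 : IsConj T.t g
      · rw [if_pos h3, if_neg (T.not_dvd_of_mul_self (mul_self_of_isConj T.tt h3)), ← T.v_conj h3, h0]
      · rw [if_neg h3]
        split_ifs with h4
        · rfl
        · have h5 := T.sq_rel hm h4
          have h6 : g ^ 2 ≠ 1 := fun e => h3 (T.conj_t ((sq g).symm.trans e) h1)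
          have h7 := lt_of_le_of_ne (T.v_le (g ^ 2)) (T.v_ne h6)
          by_contra h8
          nlinarith
  have hh : ∑ g, h g = T.m - 1 - T.i := by
    simp only [h, sum_sub_distrib, sum_ite_eq', mem_univ, if_true, sum_boole, card_filter_isConj]
  have h3 := T.sum_reg
  have h4 := sum_le_sum fun g (_ : g ∈ univ) => hle g
  have h5 := T.order
  have h6 : (T.c : ℤ) * T.i = Nat.card G := by exact_mod_cast T.c_mul_i
  rw [h0, sub_zero] at h5
  have h7 : (T.i : ℤ) * T.m = p * (T.c * (T.m - 1)) :=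
    mul_left_cancel₀ (a := (T.m : ℤ)) (by omega) (by linear_combination h5)
  have hi : (0 : ℤ) < T.i := by exact_mod_cast Nat.pos_of_ne_zero index_ne_zero_of_finite
  have h8 : (T.c : ℤ) < p := by
    change (p : ℤ) * ∑ g, f g = _ at h3
    nlinarith
  have h9 : T.m ∣ T.c := by
    have h10 : (T.m : ℤ) ∣ T.c * T.i := h6 ▸ Int.natCast_dvd_natCast.mpr
      (IsIrrCharacter.degree_dvd_card T.χ.2 (deg_eq _))
    have h11 : (T.m : ℤ) ^ 2 ∣ T.c ^ 2 * ((T.m + 1) * (T.m - 1)) := by
      obtain ⟨k, hk⟩ := h10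
      exact ⟨k, by rw [← hm']; linear_combination T.m * hk - T.c * h7⟩
    have h12 : IsCoprime ((T.m : ℤ) ^ 2) ((T.m + 1) * (T.m - 1)) := ⟨1, -1, by ring⟩
    exact_mod_cast (Int.pow_dvd_pow_iff two_ne_zero).mp (h12.dvd_of_dvd_mul_right h11)
  have h10 : T.c = T.m := le_antisymm (by omega) (Nat.le_of_dvd Nat.card_pos h9)
  have h11 : (T.i : ℤ) = p * (T.m - 1) :=
    mul_left_cancel₀ (a := (T.m : ℤ)) (by omega) (by rw [h10] at h7; linear_combination h7)
  have h12 : ∀ g, h g = f g := fun g => (sum_eq_sum_iff_of_le fun g _ => hle g).mp (by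
    apply mul_left_cancel₀ (a := (p : ℤ)) (by omega)
    rw [h3, hh, ← h6, h10, h11, hm']; ring) g (mem_univ _)
  refine ⟨h10, by zify [show 1 ≤ T.m by omega]; exact h11, fun y hy hy1 => ?_⟩
  obtain ⟨k, hk⟩ := H9.exists_nat_sum_subgroup (irr_isChar T.θ) (centralizer ({T.t} : Set G))
  have h13 : ∀ g : centralizer ({T.t} : Set G), T.θ.1 g = h g := fun g => by
    have h14 : ¬ p ∣ orderOf (g : G) := fun h => by
      have := Nat.le_of_dvd Nat.card_pos (h.trans (orderOf_dvd_natCard _ g.2))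
      change p ≤ T.c at this
      omega
    rw [h12, T.val_c _ h14, T.v_eq]
    simp only [f, if_neg h14, Int.cast_sub, Int.cast_one]
  simp only [h13] at hk
  have h14 : ∑ g : centralizer ({T.t} : Set G), h g = T.c * k := by exact_mod_cast hk
  simp only [h, sum_sub_distrib, OneMemClass.coe_eq_one, sum_ite_eq', mem_univ, if_true,
    sum_boole] at h14
  by_contra h15
  have h16 := card_le_card (s := univ.filter fun g : centralizer ({T.t} : Set G) => IsConj T.t g)
    (t := (univ.erase 1).erase ⟨y, mem_centralizer_singleton_iff.mpr hy⟩) fun g hg => by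
      simp only [mem_filter, mem_univ, true_and, mem_erase, and_true] at hg ⊢
      refine ⟨fun e => h15 (by rw [e] at hg; exact hg), fun e => T.t_ne ?_⟩
      rw [e] at hg
      exact isConj_one_left.mp hg
  rw [card_erase_of_mem (by simpa using hy1), card_erase_of_mem (mem_univ _), card_univ,
    ← Nat.card_eq_fintype_card] at h16
  change _ ≤ T.c - 1 - 1 at h16
  rw [h10] at h14 h16
  rcases Nat.eq_zero_or_pos k with rfl | hk0
  · omega
  · nlinarith

theorem caseI_psl (hm : T.m + 1 = p) : ∃ (F : Type) (_ : Field F) (_ : Fintype F) (k : ℕ),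
    Fintype.card F = 2 ^ k ∧ p = 2 ^ k + 1 ∧
      Nonempty (G ≃* Matrix.ProjectiveSpecialLinearGroup (Fin 2) F) := by
  obtain ⟨h1, h2, h3⟩ := T.caseI hm
  obtain ⟨k, hk⟩ := exists_card_cent_eq T.tt h3
  change T.c = _ at hk
  have h4 := T.two_le
  have hk0 : k ≠ 0 := by rintro rfl; omega
  have : Fact (Nat.Prime 2) := ⟨Nat.prime_two⟩
  have := Fintype.ofFinite (GaloisField 2 k)
  have h5 : Fintype.card (GaloisField 2 k) = 2 ^ k := by
    rw [← Nat.card_eq_fintype_card, GaloisField.card 2 k hk0]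
  refine ⟨GaloisField 2 k, inferInstance, inferInstance, k, h5, by omega,
    psl_even T.tt h3 h5 ?_ T.t_ne hk⟩
  rw [← T.c_mul_i, h2, ← hk, h1, hm]
  ring

theorem caseI_imprim (hm : T.m + 1 = p) {Ω : Type*} [Finite Ω] [MulAction G Ω] [IsPretransitive G Ω]
    (hΩ : Nat.card Ω = 3 * p) : ¬ IsPreprimitive G Ω := fun hprim => by
  obtain ⟨h1, h2, h3⟩ := T.caseI hm
  have := T.simple
  have : Fact (Nat.Prime 2) := ⟨Nat.prime_two⟩
  have h4 := mul_self_of_mem_cent T.tt h3
  have h5 := T.five_le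
  have h6 := T.odd
  set S := centralizer ({T.t} : Set G) with hS
  have hC : ∀ s ∈ S, s ≠ 1 → centralizer ({s} : Set G) = S := fun s hs hs1 =>
    (eq_of_le_of_card_ge (fun y hy => mem_centralizer_singleton_iff.mpr
      (comm_of_mul_self h4 y hy s hs)) (card_centralizer_eq_of_isConj
        (h3 s (mem_centralizer_singleton_iff.mp hs) hs1)).ge).symm
  have hN : ∀ g, g * T.t * g⁻¹ ∈ S → g ∈ normalizer (S : Set G) := fun g hg =>
    H9.mem_normalizer_of_conj_mem fun x hx => by
      rw [← hC _ hg (by simpa using T.t_ne), mem_centralizer_singleton_iff]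
      calc _ = g * (x * T.t) * g⁻¹ := by group
        _ = _ := by rw [mem_centralizer_singleton_iff.mp hx]; group
  obtain ⟨ω, hω⟩ := (isPGroup_two_of_mul_self h4).nonempty_fixed_point_of_prime_not_dvd_card Ω
    (by rw [hΩ]; omega)
  have hSH : S ≤ stabilizer G ω := fun s hs => hω ⟨s, hs⟩
  have h7 := card_mul_card_stabilizer (G := G) ω
  rw [hΩ, ← T.c_mul_i, h1, h2] at h7
  have h8 : 3 * Nat.card (stabilizer G ω) = T.m * (T.m - 1) :=
    Nat.eq_of_mul_eq_mul_left hp.out.pos (by linarith)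
  have h9 : stabilizer G ω ≤ normalizer (S : Set G) := fun g hg => hN g (by
    by_contra h10
    have h11 := H9.card_mul_card_le_of_disjoint hSH (B := S.map (MulAut.conj g).toMonoidHom)
      (H9.map_conj_le_iff.mpr fun x hx => mul_mem (mul_mem hg (hSH hx)) (inv_mem hg))
      (eq_bot_iff.mpr fun s hs => by
        by_contra hs1
        apply h10
        rw [← hC s hs.1 hs1, mem_centralizer_singleton_iff]
        have h12 := mem_centralizer_singleton_iff.mp (H9.mem_map_conj.mp hs.2)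
        calc _ = g * (T.t * (g⁻¹ * s * g)) * g⁻¹ := by group
          _ = _ := by rw [← h12]; group)
    rw [H9.card_map_conj] at h11
    change T.c * T.c ≤ _ at h11
    rw [h1] at h11
    have : T.m * (T.m - 1) ≤ T.m * T.m := Nat.mul_le_mul_left _ (by omega)
    have : 0 < T.m * T.m := by have := T.two_le; positivity
    omega)
  have : Nontrivial Ω := Finite.one_lt_card_iff_nontrivial.mp (by omega)
  have h10 := (isCoatom_stabilizer_iff_preprimitive G ω).mpr hprim
  have hna : ¬ IsMulCommutative G := fun h => T.t_not_mem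
    (mem_centralizer_singleton_iff.mpr (h.is_comm.comm _ _))
  have h11 : normalizer (S : Set G) = stabilizer G ω := (h10.le_iff_eq
    (normalizer_ne_top_of_pgroup hna (isPGroup_two_of_mul_self h4) fun h => T.t_ne (by
      rw [← mem_bot, ← h]; exact mem_centralizer_singleton_iff.mpr rfl))).mp h9
  have h12 := ncard_conj_mem T.t (S : Set G)
  have h13 : cl T.t ∩ S = (S : Set G) \ {1} := by
    ext y
    exact ⟨fun h => ⟨h.2, fun e => T.t_ne (isConj_one_left.mp (e ▸ mem_cl.mp h.1))⟩,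
      fun h => ⟨mem_cl.mpr (h3 y (mem_centralizer_singleton_iff.mp h.1) h.2), h.1⟩⟩
  have h14 := Set.ncard_le_ncard (s := {g : G | g * T.t * g⁻¹ ∈ (S : Set G)})
    (t := (stabilizer G ω : Set G)) fun g hg => h11 ▸ hN g hg
  rw [h12, h13, Set.ncard_sdiff_singleton_of_mem (one_mem S), ncard_subgroup, ncard_subgroup] at h14
  change (T.c - 1) * T.c ≤ _ at h14
  rw [h1, mul_comm] at h14
  have : 0 < T.m * (T.m - 1) := Nat.mul_pos (by omega) (by omega)
  omega

end TA

end Cfsg.Agent.H4
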