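import Mathlib

/-!
# Strongly regular graphs on `3p` points with an eigenspace of dimension `2p - 1`
-/

set_option autoImplicit false

namespace Cfsg.Agent.H4

open Finset
open scoped Classical

variable {Ω : Type*} [Fintype Ω]

/-- a strongly regular graph -/
structure Srg (R : Ω → Ω → Prop) (k l μ : ℕ) : Prop where
  symm : ∀ a b, R a b → R b a
  irr : ∀ a, ¬ R a a
  hk : ∀ a, #{c | R a c} = k
  hl : ∀ a b, R a b → #{c | R a c ∧ R c b} = l
  hμ : ∀ a b, a ≠ b → ¬ R a b → #{c | R a c ∧ R c b} = μ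

theorem srg_arith {p k l μ u j : ℤ} (hp : 5 ≤ p) (hk : 0 < k) (hk2 : 2 * k + 1 ≤ 3 * p)
    (hj : j = -(u + l - μ)) (h2 : k * k = k + k * l + (3 * p - 1 - k) * μ)
    (h3 : u * u = k - μ + (l - μ) * u) (h4 : k + (2 * p - 1) * u + p * (l - μ - u) = 0)
    (hp4 : p % 4 = 1) :
    k % 2 = 0 ∧ l % 2 = 1 ∧ μ % 2 = 1 ∧ (3 * k = 3 * p + 2 * l + 1 → p = 5) := by
  have h5 : k = u + j * p := by rw [hj]; linear_combination h4
  have h6 : l - μ = -j - u := by rw [hj]; ring
  have h7 : μ = k - u * (j + 2 * u) := by rw [h6] at h3; linear_combination h3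
  have h8 : l = k - u * (j + 2 * u) - j - u := by linear_combination h6 + h7
  have h9 : 6 * u * u + 6 * u * j - 3 * u + j * j = j * (3 - j) * p := by
    apply mul_left_cancel₀ (a := p) (by omega)
    rw [h7, h8, h5] at h2
    linear_combination h2
  clear hj
  have h10 : j = 1 := by
    by_contra h
    rcases (show j ≤ -1 ∨ j = 0 ∨ j = 2 ∨ 3 ≤ j by omega) with h | h | h | h
    · have h11 : 0 ≤ (-j) * (p - 5) := mul_nonneg (by omega) (by omega)
      have h12 : -5 * j ≤ u := by nlinarith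
      have h13 : 0 < u * (6 * u + 6 * j - 3) := mul_pos (by omega) (by omega)
      have h14 : 0 < (-j) * (3 - j) * p := mul_pos (mul_pos (by omega) (by omega)) (by omega)
      nlinarith
    · subst h
      have h11 : u * (2 * u - 1) = 0 := by linarith
      rcases mul_eq_zero.mp h11 with h | h <;> omega
    · subst h
      have h11 : (2 * u + 3) * (3 * u + 2) ≤ 0 := by nlinarith
      have h12 : u = -1 := by
        by_contra h
        rcases (show u ≤ -2 ∨ 0 ≤ u by omega) with h | h <;> nlinarith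
      subst h12
      omega
    · have h11 : 0 ≤ (2 * j - 3) * (p - 5) := mul_nonneg (by omega) (by omega)
      have h12 : 2 * u ≤ -1 - 5 * (2 * j - 3) := by nlinarith
      have h13 : 0 < (-u) * (-(6 * u + 6 * j - 3)) := mul_pos (by omega) (by omega)
      have h14 : 0 ≤ j * (j - 3) * p := mul_nonneg (mul_nonneg (by omega) (by omega)) (by omega)
      nlinarith
  subst h10
  have h11 : u % 8 = 1 := by
    obtain ⟨w, r, rfl, h1, h2⟩ : ∃ w r, u = 8 * w + r ∧ 0 ≤ r ∧ r < 8 :=
      ⟨u / 8, u % 8, by omega, by omega, by omega⟩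
    generalize hX : w * w = X at *
    have : 6 * (64 * X + 16 * (w * r) + r * r) + 3 * (8 * w + r) + 1 = 2 * p := by
      rw [← hX]; linear_combination h9
    interval_cases r <;> omega
  obtain ⟨w, rfl⟩ : ∃ w, u = 8 * w + 1 := ⟨u / 8, by omega⟩
  generalize hX : w * w = X at *
  have e1 : p = 192 * X + 60 * w + 5 := by
    have : 2 * p = 2 * (192 * X + 60 * w + 5) := by rw [← hX]; linear_combination -h9
    omega
  have e2 : μ = k - (128 * X + 40 * w + 3) := by rw [← hX, h7]; ring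
  refine ⟨by omega, by omega, by omega, fun h => ?_⟩
  have e3 : w * (8 * w + 1) = 0 := by
    have : 8 * X + w = 0 := by omega
    rw [← this, ← hX]; ring
  rcases mul_eq_zero.mp e3 with h | h
  · subst h; omega
  · omega

namespace Srg

variable {R : Ω → Ω → Prop} {k l μ : ℕ} (h : Srg R k l μ)
include h

theorem split {F : Ω → ℚ} {a : Ω} {α β γ : ℚ} (h1 : F a = α) (h2 : ∀ c, R a c → F c = β)
    (h3 : ∀ c, a ≠ c → ¬ R a c → F c = γ) (f : Ω → ℚ) :
    ∑ c, F c * f c = (α - γ) * f a + (β - γ) * ∑ c with R a c, f c + γ * ∑ c, f c := by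
  have h4 : ∀ c, F c * f c = (if a = c then (α - γ) * f c else 0) +
      (β - γ) * (if R a c then f c else 0) + γ * f c := fun c => by
    by_cases h5 : a = c
    · subst h5
      rw [if_pos rfl, if_neg (h.irr a), h1]; ring
    · by_cases h6 : R a c
      · rw [if_neg h5, if_pos h6, h2 c h6]; ring
      · rw [if_neg h5, if_neg h6, h3 c h5 h6]; ring
  simp only [h4, sum_add_distrib, sum_ite_eq, mem_univ, if_true, ← mul_sum, sum_filter]

theorem edges (a : Ω) : (k : ℚ) * k = k + k * l + (Fintype.card Ω - 1 - k) * μ := by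
  have h1 := h.split (F := fun b => (#{c | R a c ∧ R c b} : ℚ)) (a := a) (α := k) (β := l) (γ := μ)
    (by rw [← h.hk a]; congr 2; ext c; simpa using h.symm a c)
    (fun c hc => by rw [h.hl a c hc]) (fun c h1 h2 => by rw [h.hμ a c h1 h2]) 1
  simp only [Pi.one_apply, mul_one, sum_const, h.hk, nsmul_one, card_univ] at h1
  have h2 : ∑ b, (#{c | R a c ∧ R c b} : ℚ) = k * k := by
    simp only [card_filter, Nat.cast_sum]
    rw [sum_comm, sum_congr rfl (g := fun c => if R a c then (k : ℚ) else 0) fun c _ => by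
      by_cases hc : R a c
      · simp [hc, h.hk c]
      · simp [hc], ← sum_filter, sum_const, h.hk, nsmul_eq_mul]
  linear_combination h1 - h2

theorem params {p : ℕ} (hp : 5 ≤ p) (hp4 : p % 4 = 1) (hN : Fintype.card Ω = 3 * p)
    (hk2 : 2 * k + 1 ≤ 3 * p) {E : Ω → Ω → ℚ} {x y : ℚ} (hxy : x ≠ y) (e1 : ∀ a, E a a = 1)
    (ex : ∀ a b, R a b → E a b = x) (ey : ∀ a b, a ≠ b → ¬ R a b → E a b = y)
    (e0 : ∀ b, ∑ a, E a b = 0) (e2 : ∀ a b, (2 * p - 1) * ∑ c, E a c * E c b = 3 * p * E a b)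
    {a1 b1 a2 b2 : Ω} (hadj : R a1 b1) (hne : a2 ≠ b2) (hn : ¬ R a2 b2) :
    k % 2 = 0 ∧ l % 2 = 1 ∧ μ % 2 = 1 ∧ (3 * k = 3 * p + 2 * l + 1 → p = 5) := by
  have hw : x - y ≠ 0 := sub_ne_zero.mpr hxy
  have hs : ∀ a b, E a b = E b a := fun a b => by
    by_cases h1 : a = b
    · rw [h1]
    · by_cases h2 : R a b
      · rw [ex a b h2, ex b a (h.symm a b h2)]
      · rw [ey a b h1 h2, ey b a (Ne.symm h1) fun h3 => h2 (h.symm b a h3)]
  have s1 := fun a f => h.split (F := E a) (e1 a) (ex a) (ey a) f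
  have s2 : ∀ a b, ∑ c with R a c, E c b =
      (1 - y) * (if R a b then 1 else 0) + (x - y) * #{c | R a c ∧ R c b} + y * k := fun a b => by
    have := s1 b fun c => if R a c then 1 else 0
    simp only [mul_ite, mul_one, mul_zero, ← sum_filter, sum_const, h.hk, nsmul_one,
      filter_filter] at this
    simp only [hs _ b, this, mul_ite, mul_one, mul_zero]
    congr 5
    ext c
    simp only [mem_filter, mem_univ, true_and]
    exact ⟨fun h1 => ⟨h1.2, h.symm _ _ h1.1⟩, fun h1 => ⟨h.symm _ _ h1.2, h1.1⟩⟩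
  have s3 : ∀ a b, 3 * p * E a b = (2 * p - 1) * ((1 - y) * E a b + (x - y) *
      ((1 - y) * (if R a b then 1 else 0) + (x - y) * #{c | R a c ∧ R c b} + y * k)) := fun a b => by
    rw [← e2, s1, e0, s2]; ring
  have r0 := s1 a1 1
  simp only [Pi.one_apply, mul_one, sum_const, h.hk, nsmul_one, card_univ, hN, hs a1, e0] at r0
  have r1 := s3 a1 a1
  rw [e1, if_neg (h.irr _), show #{c | R a1 c ∧ R c a1} = k by
    rw [← h.hk a1]; congr 1; ext c; simpa using h.symm a1 c] at r1
  have r2 := s3 a1 b1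
  rw [ex _ _ hadj, if_pos hadj, h.hl _ _ hadj] at r2
  have r3 := s3 a2 b2
  rw [ey _ _ hne hn, if_neg hn, h.hμ _ _ hne hn] at r3
  have r4 := h.edges a1
  rw [hN] at r4
  push_cast at r0 r4
  have hm : (2 * p - 1 : ℚ) ≠ 0 := by
    have : (5 : ℚ) ≤ p := by exact_mod_cast hp
    linarith
  have a1' : x * k * x = 1 - y + (x - y) * l + y * k :=
    mul_left_cancel₀ (mul_ne_zero hm hw) (by linear_combination r2 - x * r1)
  have a2' : x * k * y = (x - y) * μ + y * k :=
    mul_left_cancel₀ (mul_ne_zero hm hw) (by linear_combination r3 - y * r1)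
  have q3 : x * k * (x * k) = k - μ + (l - μ) * (x * k) := by
    linear_combination k * a1' + y * r4 - μ * r0
  have q4 : k + (2 * p - 1) * (x * k) + p * (l - μ - x * k) = 0 :=
    mul_left_cancel₀ hw (by linear_combination -r1 - p * a1' + p * a2' - r0)
  obtain ⟨u, hu⟩ : ∃ u : ℤ, (u : ℚ) = x * k := IsIntegrallyClosed.isIntegral_iff.mp
    ⟨Polynomial.X ^ 2 - (Polynomial.C (l - μ : ℤ) * Polynomial.X + Polynomial.C (k - μ : ℤ)),
      Polynomial.monic_X_pow_sub (Polynomial.degree_linear_lt), by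
        simp only [Polynomial.eval₂_sub, Polynomial.eval₂_add, Polynomial.eval₂_mul,
          Polynomial.eval₂_X_pow, Polynomial.eval₂_C, Polynomial.eval₂_X]
        simp only [eq_intCast]
        push_cast
        linear_combination q3⟩
  rw [← hu] at q3 q4
  have hk0 : 0 < k := h.hk a1 ▸ card_pos.mpr ⟨b1, by simpa using hadj⟩
  have := srg_arith (p := p) (k := k) (l := l) (μ := μ) (u := u) (by omega) (by omega) (by omega) rfl
    (by exact_mod_cast r4) (by exact_mod_cast q3) (by exact_mod_cast q4) (by omega)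
  omega

omit h [Fintype Ω] in
theorem card_mod_two {τ : Ω → Ω} (hτ : ∀ a, τ (τ a) = a) (s : Finset Ω) (hs : ∀ a ∈ s, τ a ∈ s) :
    #s % 2 = #{a ∈ s | τ a = a} % 2 := by
  have h1 : ∑ a ∈ s with ¬ τ a = a, (1 : ZMod 2) = 0 :=
    sum_involution (fun a _ => τ a) (fun _ _ => rfl) (fun a ha _ => (mem_filter.mp ha).2)
      (fun a ha => mem_filter.mpr ⟨hs a (mem_filter.mp ha).1, fun h2 =>
        (mem_filter.mp ha).2 (h2.symm.trans (hτ a))⟩) fun a _ => hτ a
  rw [sum_const, nsmul_one, ZMod.natCast_eq_zero_iff] at h1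
  have := card_filter_add_card_filter_not (s := s) fun a => τ a = a
  omega

theorem triangle {τ : Ω → Ω} (hτ : ∀ a, τ (τ a) = a) (hR : ∀ a b, R a b → R (τ a) (τ b))
    {a b c : Ω} (hab : a ≠ b) (hac : a ≠ c) (hbc : b ≠ c) (hF : ∀ d, τ d = d ↔ d = a ∨ d = b ∨ d = c)
    (hl : l % 2 = 1) (hμ : μ % 2 = 1) : 3 * k = Fintype.card Ω + 2 * l + 1 := by
  have h1 : ∀ d e, d ≠ e → #{c | R d c ∧ R c e} % 2 = 1 := fun d e hde => by
    by_cases h2 : R d e
    · rw [h.hl d e h2, hl]
    · rw [h.hμ d e hde h2, hμ]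
  have h2 : ∀ (P : Ω → Prop) [DecidablePred P], #{d ∈ ({d | P d} : Finset Ω) | τ d = d} =
      (if P a then 1 else 0) + (if P b then 1 else 0) + if P c then 1 else 0 := fun P _ => by
    rw [filter_comm, show ({d | τ d = d} : Finset Ω) = {a, b, c} by ext d; simp [hF], card_filter,
      sum_insert (by simp [hab, hac]), sum_pair hbc, add_assoc]
  have ha := (hF a).mpr (Or.inl rfl)
  have hb := (hF b).mpr (Or.inr (Or.inl rfl))
  have hc := (hF c).mpr (Or.inr (Or.inr rfl))
  have h3 : ∀ d e, τ d = d → τ e = e → d ≠ e → ((if R d a ∧ R a e then 1 else 0) +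
      (if R d b ∧ R b e then 1 else 0) + if R d c ∧ R c e then 1 else 0) % 2 = 1 :=
    fun d e hd he hde => by
      rw [← h2 fun c => R d c ∧ R c e, ← card_mod_two hτ, h1 d e hde]
      intro f hf
      simp only [mem_filter, mem_univ, true_and] at hf ⊢
      exact ⟨hd ▸ hR _ _ hf.1, he ▸ hR _ _ hf.2⟩
  have h4 : R a c ∧ R c b := by
    by_contra h5
    have := h3 a b ha hb hab
    simp [h.irr, h5] at this
  have h5 : R a b := by
    by_contra h5
    have := h3 a c ha hc hac
    simp [h.irr, h5] at this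
  have h6 : ∀ d, (if R a d then 1 else 0) + (if R b d then 1 else 0) + (if R c d then 1 else 0) +
      (if d = c then 1 else 0) = 1 + 2 * (if R a d ∧ R d b then 1 else 0) +
      (if d = a then 1 else 0) + (if d = b then 1 else 0) := fun d => by
    by_cases hd : τ d = d
    · rcases (hF d).mp hd with rfl | rfl | rfl
      · simp [h.irr, h.symm _ _ h5, h.symm _ _ h4.1, hab, hac]
      · simp [h.irr, h5, h4.2, hab.symm, hbc]
      · simp [h.irr, h4, h.symm _ _ h4.2, hac.symm, hbc.symm]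
    · have h7 := h1 d (τ d) (Ne.symm hd)
      rw [card_mod_two hτ _ (fun f hf => by
        simp only [mem_filter, mem_univ, true_and] at hf ⊢
        exact ⟨h.symm _ _ (hτ d ▸ hR _ _ hf.2), h.symm _ _ (hR _ _ hf.1)⟩), h2] at h7
      have h8 : ∀ e, τ e = e → (R d e ∧ R e (τ d) ↔ R e d) := fun e he =>
        ⟨fun h9 => h.symm _ _ h9.1, fun h9 => ⟨h.symm _ _ h9, he ▸ hR _ _ h9⟩⟩
      have h9 : R d b ↔ R b d := ⟨h.symm _ _, h.symm _ _⟩
      simp only [h8 a ha, h8 b hb, h8 c hc] at h7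
      rw [hF, not_or, not_or] at hd
      rw [if_neg hd.1, if_neg hd.2.1, if_neg hd.2.2, h9]
      by_cases e1 : R a d <;> by_cases e2 : R b d <;> by_cases e3 : R c d <;>
        simp [e1, e2, e3] at h7 ⊢
  have h7 := sum_congr rfl fun d (_ : d ∈ univ) => h6 d
  simp only [sum_add_distrib, sum_ite_eq', mem_univ, if_true] at h7
  simp only [← mul_sum, ← card_filter, h.hk, h.hl a b h5, sum_const, card_univ,
    smul_eq_mul, mul_one] at h7
  omega

end Srg

end Cfsg.Agent.H4
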