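import Cfsg.Agent.H4.TP3
import Cfsg.Agent.H4.TP4
import Cfsg.Agent.BS.SEMain

/-!
# Rank three actions and the idempotent of a constituent of the permutation character
-/

set_option autoImplicit false
set_option linter.unusedSectionVars false

namespace Cfsg.Agent.H4

open Finset Subgroup Cfsg.Agent.L0 Cfsg.Agent.H6 MulAction
open scoped ComplexConjugate Classical

variable {G : Type*} [Group G] [Finite G] {Ω : Type*} [MulAction G Ω]

variable (G) in
/-- the orbital of `(a1, b1)` -/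
def Orb (a1 b1 a b : Ω) : Prop := ∃ g : G, g • a1 = a ∧ g • b1 = b

theorem Orb.smul {a1 b1 a b : Ω} (h : Orb G a1 b1 a b) (g : G) : Orb G a1 b1 (g • a) (g • b) := by
  obtain ⟨k, h1, h2⟩ := h
  exact ⟨g * k, by rw [mul_smul, h1], by rw [mul_smul, h2]⟩

theorem orb_smul {a1 b1 a b : Ω} (g : G) : Orb G a1 b1 (g • a) (g • b) ↔ Orb G a1 b1 a b :=
  ⟨fun h => by simpa using h.smul g⁻¹, fun h => h.smul g⟩

theorem Orb.symm {a1 b1 a b : Ω} (h : Orb G a1 b1 a b) : Orb G a b a1 b1 := by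
  obtain ⟨k, h1, h2⟩ := h
  exact ⟨k⁻¹, by rw [← h1, inv_smul_smul], by rw [← h2, inv_smul_smul]⟩

theorem Orb.trans {a1 b1 a b c d : Ω} (h : Orb G a1 b1 a b) (h' : Orb G a b c d) : Orb G a1 b1 c d := by
  obtain ⟨k, rfl, rfl⟩ := h'
  exact h.smul k

theorem Orb.ne {a1 b1 a b : Ω} (h : Orb G a1 b1 a b) (h1 : a1 ≠ b1) : a ≠ b := by
  obtain ⟨k, rfl, rfl⟩ := h
  simpa using h1

theorem rank_three [Fintype G] [Finite Ω] [Nonempty Ω] [IsPretransitive G Ω]
    (h : ∑ g : G, (fixedBy Ω g).ncard ^ 2 = 3 * Nat.card G) :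
    ∃ a1 b1 a2 b2 : Ω, a1 ≠ b1 ∧ a2 ≠ b2 ∧ ¬ Orb G a1 b1 a2 b2 ∧
      ∀ a b, a ≠ b → Orb G a1 b1 a b ∨ Orb G a2 b2 a b := by
  have := Fintype.ofFinite (Ω × Ω)
  have := Fintype.ofFinite (Quotient (orbitRel G (Ω × Ω)))
  have h1 := sum_card_fixedBy_eq_card_orbits_mul_card_group G (Ω × Ω)
  have h2 : ∀ g : G, Fintype.card (fixedBy (Ω × Ω) g) = (fixedBy Ω g).ncard ^ 2 := fun g => by
    rw [← Nat.card_eq_fintype_card, Nat.card_coe_set_eq, sq, ← Set.ncard_prod]
    congr 1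
    ext a
    simp [Prod.ext_iff]
  simp only [h2] at h1
  rw [h, ← Nat.card_eq_fintype_card (α := G)] at h1
  have h3 := (Nat.eq_of_mul_eq_mul_right Nat.card_pos h1).symm
  have h4 : ∀ a b c d : Ω, (⟦(a, b)⟧ : Quotient (orbitRel G (Ω × Ω))) = ⟦(c, d)⟧ ↔ Orb G c d a b :=
    fun a b c d => by
      rw [Quotient.eq, orbitRel_apply, mem_orbit_iff]
      simp [Orb, Prod.ext_iff]
  obtain ⟨ω⟩ := ‹Nonempty Ω›
  have h5 : ∀ a b : Ω, (⟦(a, b)⟧ : Quotient (orbitRel G (Ω × Ω))) = ⟦(ω, ω)⟧ ↔ a = b := fun a b => by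
    rw [h4]
    constructor
    · rintro ⟨g, rfl, rfl⟩; rfl
    · rintro rfl
      obtain ⟨g, hg⟩ := exists_smul_eq G ω a
      exact ⟨g, hg, hg⟩
  obtain ⟨o1, o2, h6, h7⟩ := card_eq_two.mp (show #(univ.erase
    (⟦(ω, ω)⟧ : Quotient (orbitRel G (Ω × Ω)))) = 2 by rw [card_erase_of_mem (mem_univ _), card_univ, h3])
  obtain ⟨⟨a1, b1⟩, rfl⟩ := Quotient.exists_rep o1
  obtain ⟨⟨a2, b2⟩, rfl⟩ := Quotient.exists_rep o2
  have h8 : ∀ a b : Ω, a ≠ b ↔ (⟦(a, b)⟧ : Quotient (orbitRel G (Ω × Ω))) = ⟦(a1, b1)⟧ ∨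
      (⟦(a, b)⟧ : Quotient (orbitRel G (Ω × Ω))) = ⟦(a2, b2)⟧ := fun a b => by
    rw [← mem_singleton (b := ⟦(a, b)⟧) (a := ⟦(a2, b2)⟧), ← mem_insert, ← h7, Ne, ← h5]
    simp
  exact ⟨a1, b1, a2, b2, (h8 _ _).mpr (Or.inl rfl), (h8 _ _).mpr (Or.inr rfl),
    fun h9 => h6 ((h4 _ _ _ _).mpr h9).symm, fun a b hab => by simpa only [h4] using (h8 a b).mp hab⟩

theorem exists_srg [Fintype Ω] [IsPretransitive G Ω] {a1 b1 a2 b2 : Ω} (h1 : a1 ≠ b1)
    (h2 : ∀ a b, a ≠ b → Orb G a1 b1 a b ∨ Orb G a2 b2 a b)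
    (hs : ∀ a b, Orb G a1 b1 a b → Orb G a1 b1 b a) : ∃ k l μ, Srg (Orb G a1 b1) k l μ := by
  have h3 : ∀ (g : G) a b, #{c | Orb G a1 b1 (g • a) c ∧ Orb G a1 b1 c (g • b)} =
      #{c | Orb G a1 b1 a c ∧ Orb G a1 b1 c b} := fun g a b =>
    (card_equiv (toPerm g) fun c => by simp [orb_smul]).symm
  refine ⟨#{c | Orb G a1 b1 a1 c}, #{c | Orb G a1 b1 a1 c ∧ Orb G a1 b1 c b1},
    #{c | Orb G a1 b1 a2 c ∧ Orb G a1 b1 c b2}, hs, fun a h => h.ne h1 rfl, fun a => ?_, ?_,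
    fun a b hab h => ?_⟩
  · obtain ⟨g, rfl⟩ := exists_smul_eq G a1 a
    exact (card_equiv (toPerm g) fun c => by simp [orb_smul]).symm
  · rintro _ _ ⟨g, rfl, rfl⟩
    exact h3 g a1 b1
  · obtain ⟨g, rfl, rfl⟩ := (h2 a b hab).resolve_left h
    exact h3 g a2 b2

theorem exists_idem [Fintype Ω] [IsPretransitive G Ω] (χ : IrrCharacter G) (v : G → ℤ)
    (hv : ∀ g, χ.1 g = v g) {n : IrrCharacter G → ℕ} (hn : Dec (pc Ω) n) (h1 : n χ = 1)
    (hχ : χ ≠ irrOne G) :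
    ∃ E : Ω → Ω → ℚ, (∀ (g : G) a b, E (g • a) (g • b) = E a b) ∧ (∀ a b, E a b = E b a) ∧
      (∀ a, E a a = 1) ∧ (∀ b, ∑ a, E a b = 0) ∧
      ∀ a b, deg χ * ∑ c, E a c * E c b = Fintype.card Ω * E a b := by
  have := Fintype.ofFinite G
  have hG : (Nat.card G : ℚ) ≠ 0 := Nat.cast_ne_zero.mpr Nat.card_pos.ne'
  have v1 : ∀ g, v g⁻¹ = v g := fun g => by
    have := IsCharacter.apply_inv (irr_isChar χ) g
    rw [hv, hv, map_intCast] at this
    exact_mod_cast this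
  have v2 : ∀ g h, v (h * g * h⁻¹) = v g := fun g h => by
    have := irr_isClass χ g h
    rw [hv, hv] at this
    exact_mod_cast this
  have v3 : ∑ g, v g = 0 := by
    have := sum_irr_eq_zero hχ
    simp only [hv] at this
    exact_mod_cast this
  have v4 : ∀ y, deg χ * ∑ g, v g * v (g⁻¹ * y) = Nat.card G * v y := fun y => by
    have h2 := IsIrrCharacter.sum_mul_apply_mul χ.2 (IsClassFunction.inv (irr_isClass χ)) y
    have h3 := card_mul_classInner χ.1 χ.1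
    rw [IsIrrCharacter.classInner_self χ.2, mul_one] at h3
    have h4 : (deg χ : ℂ) ≠ 0 := Nat.cast_ne_zero.mpr (deg_pos χ).ne'
    rw [deg_eq] at h2
    simp only [hv, v1, map_intCast] at h2 h3
    rw [← h3] at h2
    apply Int.cast_injective (α := ℂ)
    rw [← Equiv.sum_comp (Equiv.inv G)]
    simp only [Equiv.inv_apply, inv_inv, v1]
    push_cast
    rw [h2]
    field_simp
  let E : Ω → Ω → ℤ := fun a b => ∑ g, if g • b = a then v g else 0
  have e1 : ∀ (g : G) a b, E (g • a) (g • b) = E a b := fun g a b => by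
    refine (Fintype.sum_equiv (MulAut.conj g).toEquiv _ _ fun h => ?_).symm
    simp [mul_smul, v2]
  have e2 : ∀ a b, E a b = E b a := fun a b =>
    Fintype.sum_equiv (Equiv.inv G) _ _ fun h => by
      simp only [Equiv.inv_apply, inv_smul_eq_iff, v1, eq_comm (a := a)]
  have e3 : ∀ a, Fintype.card Ω * E a a = Nat.card G := fun a => by
    have h2 := card_mul_classInner (pc (G := G) Ω) χ.1
    rw [hn.inner, h1, Nat.cast_one, mul_one] at h2
    have h3 : ∑ b, E b b = Fintype.card Ω * E a a := by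
      rw [sum_congr rfl (g := fun _ => E a a) fun b _ => by
        obtain ⟨g, rfl⟩ := exists_smul_eq G a b
        exact e1 g a a, sum_const, card_univ, nsmul_eq_mul]
    rw [← h3]
    apply Int.cast_injective (α := ℂ)
    simp only [E, Int.cast_natCast]
    rw [h2, sum_comm, Int.cast_sum]
    refine sum_congr rfl fun g _ => ?_
    rw [← sum_filter, sum_const, hv, map_intCast, pc, nsmul_eq_mul, ← Set.ncard_coe_finset]
    push_cast
    congr
    ext
    simp
  have e4 : ∀ b, ∑ a, E a b = 0 := fun b => by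
    simp only [E]
    rw [sum_comm]
    simpa using v3
  have e5 : ∀ a b, deg χ * ∑ c, E a c * E c b = Nat.card G * E a b := fun a b => by
    have h2 : ∑ c, E a c * E c b = ∑ y, if y • b = a then ∑ g, v g * v (g⁻¹ * y) else 0 := by
      simp only [E, sum_mul_sum]
      rw [sum_comm]
      have h3 : ∀ y : G, (if y • b = a then ∑ g, v g * v (g⁻¹ * y) else 0) =
          ∑ g, if y • b = a then v g * v (g⁻¹ * y) else 0 := fun y => by split_ifs <;> simp
      simp only [h3]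
      rw [sum_comm (f := fun y g => if y • b = a then v g * v (g⁻¹ * y) else 0)]
      refine sum_congr rfl fun g _ => ?_
      rw [sum_comm]
      refine Fintype.sum_equiv (Equiv.mulLeft g) _ _ fun h => ?_
      simp [mul_smul]
    rw [h2, mul_sum, mul_sum]
    refine sum_congr rfl fun y _ => ?_
    split_ifs
    · exact v4 y
    · simp
  refine ⟨fun a b => Fintype.card Ω / Nat.card G * E a b, fun g a b => by simp only [e1],
    fun a b => by simp only [e2 a b], fun a => ?_, fun b => ?_, fun a b => ?_⟩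
  · have : (Fintype.card Ω : ℚ) * E a a = Nat.card G := by exact_mod_cast e3 a
    field_simp
    exact this
  · rw [← mul_sum, ← Int.cast_sum, e4, Int.cast_zero, mul_zero]
  · have : (deg χ : ℚ) * ∑ c, (E a c : ℚ) * E c b = Nat.card G * E a b := by exact_mod_cast e5 a b
    simp only [mul_mul_mul_comm _ (E a _ : ℚ), ← mul_sum]
    rw [mul_left_comm, this]
    field_simp

variable {p : ℕ} [hp : Fact p.Prime]

namespace TA

variable (T : TA p G)

include T in
theorem not_comm : ¬ IsMulCommutative G := fun h => T.t_not_mem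
  (mem_centralizer_singleton_iff.mpr (h.is_comm.comm _ _))

theorem ncard_fix {s : G} (hs : s * s = 1) (h1 : s ≠ 1) :
    (fixedBy Ω s).ncard = (fixedBy Ω T.t).ncard := by
  obtain ⟨g, rfl⟩ := isConj_iff.mp (T.conj_t hs h1)
  rw [← smul_fixedBy, Set.ncard_smul_set]

theorem se [Nontrivial Ω] [IsPretransitive G Ω] (h : (fixedBy Ω T.t).ncard = 1) : BS.SE G Ω :=
  ⟨exists_smul_eq G, exists_pair_ne Ω, ⟨T.t, T.tt, T.t_ne⟩, fun s hs => by
    obtain ⟨a, ha⟩ := Set.ncard_eq_one.mp ((T.ncard_fix hs.1 hs.2).trans h)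
    exact ⟨a, show a ∈ fixedBy Ω s from ha ▸ rfl, fun b (hb : b ∈ fixedBy Ω s) => by rwa [ha] at hb⟩⟩

include T in
theorem four : BS.Four (⊤ : Subgroup G) :=
  have := T.simple
  BS.four_of_simple T.not_comm ⟨T.tt, T.t_ne⟩

end TA

end Cfsg.Agent.H4
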