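import Cfsg.Agent.H4.TP5
import Cfsg.Agent.H9.D8

/-!
# Degree `3p`: the case `χ(1) = 2p - 1`
-/

set_option autoImplicit false
set_option linter.unusedSectionVars false

namespace Cfsg.Agent.H4

open Finset Subgroup Cfsg.Agent.L0 Cfsg.Agent.H6 MulAction
open scoped ComplexConjugate Classical

variable {G : Type*} [Group G] [Finite G] {Ω : Type*} [MulAction G Ω]

theorem alt_six_of_cent [IsSimpleGroup G] (hG : commutator G = ⊤) (h360 : Nat.card G = 360) {t : G}
    (t1 : t ≠ 1) (hc : ∀ s, s * s = 1 → s ≠ 1 → IsConj t s)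
    (h8 : Nat.card (centralizer ({t} : Set G)) = 8) (h4 : BS.Four (⊤ : Subgroup G)) :
    Nonempty (G ≃* alternatingGroup (Fin 6)) := by
  set S := centralizer ({t} : Set G) with hS
  have hN : (∀ a ∈ S, ∀ b ∈ S, a * b = b * a) → ∀ g, g * t * g⁻¹ ∈ S →
      ∀ x ∈ S, g * x * g⁻¹ ∈ S := fun hab g hg x hx => by
    have h1 : S = centralizer ({g * t * g⁻¹} : Set G) := eq_of_le_of_card_ge
      (fun y hy => mem_centralizer_singleton_iff.mpr (hab y hy _ hg))
      (card_centralizer_eq_of_isConj (isConj_iff.mpr ⟨g, rfl⟩)).ge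
    rw [h1, mem_centralizer_singleton_iff]
    calc _ = g * (x * t) * g⁻¹ := by group
      _ = _ := by rw [mem_centralizer_singleton_iff.mp hx]; group
  obtain ⟨s, hsS, ss, s1, st⟩ : ∃ s ∈ S, s * s = 1 ∧ s ≠ 1 ∧ s ≠ t := by
    obtain ⟨a, -, b, -, ha, hb, hab, hcm⟩ := h4
    obtain ⟨g, hg⟩ := isConj_iff.mp (hc a ha.1 ha.2).symm
    refine ⟨g * b * g⁻¹, mem_centralizer_singleton_iff.mpr ?_,
      TA.mul_self_of_isConj hb.1 (isConj_iff.mpr ⟨g, rfl⟩), by simpa using hb.2, fun h => hab ?_⟩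
    · rw [← hg]
      calc _ = g * (b * a) * g⁻¹ := by group
        _ = _ := by rw [← hcm]; group
    · rw [← hg] at h
      simpa using h.symm
  obtain ⟨y, hyS, hy⟩ : ∃ y ∈ S, y * y ≠ 1 := by
    by_contra h
    push Not at h
    have h1 := ncard_conj_mem t (S : Set G)
    have h2 : cl t ∩ S = (S : Set G) \ {1} := by
      ext y
      exact ⟨fun h => ⟨h.2, fun e => t1 (isConj_one_left.mp (e ▸ mem_cl.mp h.1))⟩,
        fun h' => ⟨mem_cl.mpr (hc y (h y h'.1) h'.2), h'.1⟩⟩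
    have h3 : {g : G | g * t * g⁻¹ ∈ (S : Set G)} = normalizer (S : Set G) := by
      ext g
      exact ⟨fun hg => H9.mem_normalizer_of_conj_mem (hN (comm_of_mul_self h) g hg),
        fun hg => H9.conj_mem_of_mem_normalizer hg (mem_centralizer_singleton_iff.mpr rfl)⟩
    rw [h2, h3, Set.ncard_sdiff_singleton_of_mem (one_mem S), ncard_subgroup, ncard_subgroup, h8] at h1
    have := card_subgroup_dvd_card (normalizer (S : Set G))
    rw [h1, h360] at this
    norm_num at this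
  obtain ⟨w, hwS, hw, hwt⟩ : ∃ w ∈ S, orderOf w = 4 ∧ w * w = t := by
    obtain ⟨z, hz⟩ : ∃ z : G, orderOf z = 4 := by
      have h1 := orderOf_dvd_natCard S hyS
      rw [h8] at h1
      have h2 : ¬ orderOf y ∣ 2 := fun h => hy ((sq y).symm.trans (orderOf_dvd_iff_pow_eq_one.mp h))
      have h3 := Nat.le_of_dvd (by norm_num) h1
      have h4 : orderOf y = 4 ∨ orderOf y = 8 := by
        generalize orderOf y = n at *
        interval_cases n <;> omega
      rcases h4 with h4 | h4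
      · exact ⟨y, h4⟩
      · exact ⟨y ^ 2, by rw [orderOf_pow' _ two_ne_zero, h4]; rfl⟩
    have h1 : orderOf (z ^ 2) = 2 := by rw [orderOf_pow' _ two_ne_zero, hz]; rfl
    obtain ⟨g, hg⟩ := isConj_iff.mp (hc _ (H9.mul_self_of_orderOf_two h1) (H9.ne_one_of_orderOf_two h1)).symm
    have h2 : g * z * g⁻¹ * (g * z * g⁻¹) = t := by rw [← hg, sq]; group
    exact ⟨g * z * g⁻¹, mem_centralizer_singleton_iff.mpr (by rw [← h2, ← mul_assoc]),
      by rw [H9.orderOf_conj, hz], h2⟩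
  have hu : ∀ x ∈ zpowers w, x * x = 1 → x = 1 ∨ x = t := fun x hx hxx => by
    rw [← hwt, ← pow_two]
    exact H9.eq_pow_of_mem_zpowers_of_mul_self (m := 2) hw (by omega) hx hxx
  have sK : s ∉ zpowers w := fun h => (hu s h ss).elim s1 st
  have hle : zpowers w ≤ S := zpowers_le.mpr hwS
  have hi : (zpowers w).relIndex S = 2 := by
    have := H9.card_mul_relIndex hle
    rw [Nat.card_zpowers, hw, h8] at this
    omega
  have hm : ∀ a ∈ S, ∀ b ∈ S, (a * b ∈ zpowers w ↔ (a ∈ zpowers w ↔ b ∈ zpowers w)) :=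
    fun a ha b hb => mul_mem_iff_of_index_two (H := (zpowers w).subgroupOf S) hi (a := ⟨a, ha⟩) (b := ⟨b, hb⟩)
  have hcent : ∀ c ∈ S, c ∈ zpowers w ∨ c * s ∈ zpowers w := fun c hc => by
    rw [hm c hc s hsS]; tauto
  have hinv : s * w * s⁻¹ = w⁻¹ := by
    have h1 : s * w * s⁻¹ ∈ zpowers w := by
      rw [hm _ (mul_mem hsS hwS) _ (inv_mem hsS), hm _ hsS _ hwS, inv_mem_iff]
      simp
    have w4 : w ^ 4 = 1 := hw ▸ pow_orderOf_eq_one w
    have h2 : s * w * s⁻¹ * w⁻¹ ∈ zpowers w := mul_mem h1 (inv_mem (mem_zpowers w))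
    have h3 : s * w * s⁻¹ * w = w * (s * w * s⁻¹) := by
      obtain ⟨k, hk⟩ := h1
      rw [← hk]; exact ((Commute.refl w).zpow_left k).eq
    have h5 : s * w * s⁻¹ * (s * w * s⁻¹) = t := by
      rw [show s * w * s⁻¹ * (s * w * s⁻¹) = s * (w * w) * s⁻¹ by group, hwt,
        mem_centralizer_singleton_iff.mp hsS, mul_inv_cancel_right]
    rcases hu _ h2 (by
      calc _ = s * w * s⁻¹ * (w⁻¹ * (s * w * s⁻¹ * w) * w⁻¹) * w⁻¹ := by group
        _ = s * w * s⁻¹ * (s * w * s⁻¹) * (w * w)⁻¹ := by rw [h3]; group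
        _ = 1 := by rw [h5, hwt, mul_inv_cancel]) with h6 | h6
    · exfalso
      have h7 : Commute s w := by
        rw [mul_inv_eq_one, mul_inv_eq_iff_eq_mul] at h6; exact h6
      have h8 : ∀ a ∈ S, ∃ k : ℤ, a = w ^ k ∨ a = w ^ k * s := fun a ha => by
        rcases hcent a ha with ⟨k, hk⟩ | ⟨k, hk⟩
        · exact ⟨k, Or.inl hk.symm⟩
        · exact ⟨k, Or.inr (by rw [show w ^ k = a * s from hk, mul_assoc, ss, mul_one])⟩
      have h9 : ∀ a ∈ S, ∀ b ∈ S, a * b = b * a := fun a ha b hb => by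
        have h10 : ∀ a ∈ S, Commute a w ∧ Commute a s := fun a ha => by
          obtain ⟨k, rfl | rfl⟩ := h8 a ha
          · exact ⟨(Commute.refl w).zpow_left k, h7.symm.zpow_left k⟩
          · exact ⟨((Commute.refl w).zpow_left k).mul_left h7,
              (h7.symm.zpow_left k).mul_left (Commute.refl s)⟩
        obtain ⟨k, rfl | rfl⟩ := h8 b hb
        · exact (h10 a ha).1.zpow_right k
        · exact ((h10 a ha).1.zpow_right k).mul_right (h10 a ha).2
      obtain ⟨g, hg⟩ := isConj_iff.mp (hc s ss s1)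
      have h10 : s = g * w * g⁻¹ * (g * w * g⁻¹) := by rw [← hg, ← hwt]; group
      apply sK
      rw [h10, hm _ (hN h9 g (hg ▸ hsS) w hwS) _ (hN h9 g (hg ▸ hsS) w hwS)]
    · rw [mul_inv_eq_iff_eq_mul, ← hwt] at h6
      rw [h6, eq_inv_iff_mul_eq_one, ← w4, pow_succ, pow_three']
  have h : H9.D8C w s := ⟨hw, ss, hinv, sK, fun c hc => hcent c (mem_centralizer_singleton_iff.mpr
    (hwt ▸ hc)), by
      have := S.card_mul_index
      rw [h8, h360] at this
      rw [hwt, ← hS, show S.index = 45 by omega]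
      decide⟩
  have hG2 := index_ne_two_of_perfect hG
  obtain ⟨x, hx, hxt⟩ := h.exists_three hG2
  obtain ⟨H, hH, -⟩ := h.exists_sixty hG2 h360 hx h.ht hxt
  refine H9.nonempty_equiv_alternating_six h360 hH
    ((normalCore_normal H).eq_bot_or_eq_top.resolve_right fun h2 => ?_)
  have h3 := card_le_of_le (h2 ▸ normalCore_le H)
  rw [card_top] at h3; omega

variable {p : ℕ} [hp : Fact p.Prime]

namespace TA

variable (T : TA p G)

theorem decIII [Finite Ω] [IsPretransitive G Ω] (hΩ : Nat.card Ω = 3 * p) (hm : T.m + 1 = 2 * p) :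
    ∃ (n : IrrCharacter G → ℕ) (ψ : IrrCharacter G), Dec (pc Ω) n ∧ ψ ∉ prinBlk p G ∧ deg ψ = p ∧
      n (irrOne G) = 1 ∧ n T.χ = 1 ∧ n ψ = 1 ∧
      ∀ f : IrrCharacter G → ℂ, ∑ ζ, n ζ * f ζ = f (irrOne G) + (f T.χ + f ψ) := by
  have h5 := T.five_le
  have : Nonempty Ω := (Nat.card_pos_iff.mp (by omega)).1
  obtain ⟨n, hn⟩ := exists_dec (isChar_pc (G := G) Ω)
  have hd : pc Ω (1 : G) = (3 * p : ℕ) := by rw [pc_one, hΩ]
  have h1 := fun q => T.rel0 hn (fun i hi => pc_xp T.D (hΩ ▸ dvd_mul_left _ _) hi) q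
  simp only [T.hδ, T.hδ0] at h1
  have h2 := hn.one_le_pc
  have h3 := T.deg_le hn hd
  have h4 : n T.χ = 1 := by
    have := h1 1
    by_contra h
    have : 2 * T.m ≤ n T.χ * T.m := Nat.mul_le_mul_right _ (by omega)
    omega
  have h6 : ∀ q, n (T.B.c q) = 0 := fun q => by have := h1 q; omega
  have h7 : n (irrOne G) = 1 := by have := h1 1; omega
  obtain ⟨ψ, h8, h9⟩ : ∃ ψ, ψ ∉ prinBlk p G ∧ 1 ≤ n ψ := by
    by_contra h
    push Not at h
    have := hn.deg_eq' hd
    rw [← sum_subset (subset_univ (prinBlk p G)) fun ζ _ hζ => by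
      rw [show n ζ = 0 by have := h ζ hζ; omega, zero_mul], T.B.sum_blk, T.sum_S] at this
    simp only [h4, h6, h7, deg_irrOne, zero_mul, sum_const_zero] at this
    unfold TP.m at hm
    omega
  have h10 := Nat.le_of_dvd (deg_pos ψ) (T.D.dvd_deg_of_K_eq_bot T.hK h8)
  have h11 : ψ ≠ irrOne G := fun h => h8 (h ▸ irrOne_mem_prinBlk hp.out)
  have h12 : ψ ≠ T.χ := fun h => h8 (h ▸ T.B.S_mem T.χ_mem)
  have h13 : ∀ f : IrrCharacter G → ℕ, ∑ ζ ∈ ({irrOne G, T.χ, ψ} : Finset _), f ζ =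
      f (irrOne G) + (f T.χ + f ψ) := fun f => by
    rw [sum_insert (by simp [T.hχ.symm, h11.symm]), sum_pair h12.symm]
  have h14 := hn.sum_le hd {irrOne G, T.χ, ψ}
  rw [h13, h4, h7, deg_irrOne] at h14
  have h15 : deg ψ ≤ n ψ * deg ψ := Nat.le_mul_of_pos_left _ h9
  unfold TP.m at hm
  have h16 := hn.eq_ind hd {irrOne G, T.χ, ψ} (fun ζ hζ => by
    simp only [mem_insert, mem_singleton] at hζ
    rcases hζ with rfl | rfl | rfl <;> omega) (by rw [h13, deg_irrOne]; omega)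
  refine ⟨n, ψ, hn, h8, by omega, h7, h4, by simp [h16], fun f => ?_⟩
  simp only [h16, Nat.cast_ite, Nat.cast_one, Nat.cast_zero, ite_mul, one_mul, zero_mul,
    sum_ite_mem, univ_inter]
  rw [sum_insert (by simp [T.hχ.symm, h11.symm]), sum_pair h12.symm]

theorem five_of_III [Finite Ω] [IsPretransitive G Ω] [FaithfulSMul G Ω] (hΩ : Nat.card Ω = 3 * p)
    (hm : T.m + 1 = 2 * p) : p = 5 := by
  have := Fintype.ofFinite G
  have := Fintype.ofFinite Ω
  have h5 := T.five_le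
  have : Nontrivial Ω := Finite.one_lt_card_iff_nontrivial.mp (by omega)
  obtain ⟨n, ψ, hn, -, -, h8, h9, h10, h11⟩ := T.decIII hΩ hm
  have h1 : ∑ g : G, (fixedBy Ω g).ncard ^ 2 = 3 * Nat.card G := by
    have h2 := card_mul_classInner (pc (G := G) Ω) (pc Ω)
    rw [IsClassFunction.classInner_eq_sum (IsCharacter.isClassFunction (isChar_pc Ω))] at h2
    simp only [hn.inner, h11, h8, h9, h10, pc, map_natCast] at h2
    apply Nat.cast_injective (R := ℂ)
    push_cast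
    simp only [sq]
    rw [← h2]; push_cast; ring
  obtain ⟨a1, b1, a2, b2, n1, n2, n12, hO⟩ := rank_three h1
  obtain ⟨E, e1, e2, e3, e4, e5⟩ := exists_idem T.χ T.v T.v_eq hn h9 T.hχ
  have hN : Fintype.card Ω = 3 * p := by rw [← Nat.card_eq_fintype_card, hΩ]
  have hm' : (deg T.χ : ℚ) = 2 * p - 1 := by
    rw [eq_sub_iff_add_eq]; exact_mod_cast hm
  rw [hm', hN] at e5
  push_cast at e5
  rcases T.fix_t hΩ with h2 | h2
  · exfalso
    obtain ⟨g, hg⟩ := exists_smul_eq G a1 a2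
    obtain ⟨Q, -, hQ, h3⟩ := (T.se h2).exists_sdp T.four
      (fun x hx => eq_of_smul_eq_smul (α := Ω) fun c => by rw [hx c, one_smul]) n2
    obtain ⟨x, hx, h4⟩ := h3 (g • b1) (by rw [← hg]; simpa using n1.symm)
    have h6 : x ∈ stabilizer G a2 := hQ.sup ▸ mem_sup_left hx
    exact n12 ⟨x * g, by rw [mul_smul, hg, h6], by rw [mul_smul, h4]⟩
  have hp4 : p % 4 = 1 := by
    have := four_dvd_card_sub_fixed (Ω := Ω) T.perf ((sq _).trans T.tt)
    rw [hΩ, h2] at this
    omega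
  have hE : ∀ a b c d, Orb G a b c d → E c d = E a b := by
    rintro a b _ _ ⟨g, rfl, rfl⟩
    exact e1 g a b
  have hxy : E a1 b1 ≠ E a2 b2 := fun h => by
    have h3 : ∀ c, E c a1 = (if c = a1 then 1 - E a1 b1 else 0) + E a1 b1 := fun c => by
      split_ifs with hc
      · rw [hc, e3]; ring
      · rw [zero_add]
        exact (hO _ _ hc).elim (hE _ _ _ _) fun h' => (hE _ _ _ _ h').trans h.symm
    have h4 := e4 a1
    have h6 := e5 a1 a1
    rw [sum_congr rfl fun c _ => by rw [e2 a1 c, h3 c, add_mul], sum_add_distrib, ← mul_sum] at h6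
    simp only [← h3, e4, ite_mul, zero_mul, sum_ite_eq', mem_univ, if_true, e3] at h6
    rw [sum_congr rfl fun c _ => h3 c, sum_add_distrib] at h4
    simp only [sum_ite_eq', mem_univ, if_true, sum_const, card_univ, hN, nsmul_eq_mul] at h4
    push_cast at h4
    have h7 : (5 : ℚ) ≤ p := by exact_mod_cast h5
    have h8 : (3 * p : ℚ) * p = 0 := by linear_combination -(2 * p - 1) * h4 - (3 * p - 1) * h6
    nlinarith
  have main : ∀ a1 b1 a2 b2 : Ω, a1 ≠ b1 → a2 ≠ b2 → ¬ Orb G a1 b1 a2 b2 → E a1 b1 ≠ E a2 b2 →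
      (∀ a b, a ≠ b → Orb G a1 b1 a b ∨ Orb G a2 b2 a b) →
      2 * #{c | Orb G a1 b1 a1 c} + 1 ≤ 3 * p → p = 5 := fun a1 b1 a2 b2 n1 n2 n12 hxy hO hk => by
    obtain ⟨k, l, μ, hS⟩ := exists_srg n1 hO fun a b h => (hO b a (h.ne n1).symm).resolve_right
      fun h' => hxy (by rw [← hE _ _ _ _ h, ← hE _ _ _ _ h', e2])
    rw [hS.hk] at hk
    obtain ⟨-, h3, h4, h6⟩ := hS.params h5 hp4 hN hk hxy e3 (fun a b => hE _ _ _ _)
      (fun a b hab h => hE _ _ _ _ ((hO a b hab).resolve_left h)) e4 e5 ⟨1, one_smul _ _, one_smul _ _⟩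
      n2 n12
    obtain ⟨a, b, c, hab, hac, hbc, hF⟩ := Set.ncard_eq_three.mp h2
    have := hS.triangle (τ := fun d => T.t • d) (fun d => by rw [← mul_smul, T.tt, one_smul])
      (fun d e h => h.smul _) hab hac hbc (fun d => by
        rw [← mem_fixedBy, hF]; simp) h3 h4
    exact h6 (hN ▸ this)
  by_cases hk : 2 * #{c | Orb G a1 b1 a1 c} + 1 ≤ 3 * p
  · exact main a1 b1 a2 b2 n1 n2 n12 hxy hO hk
  · refine main a2 b2 a1 b1 n2 n1 (fun h => n12 h.symm) hxy.symm (fun a b h => (hO a b h).symm) ?_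
    obtain ⟨g, rfl⟩ := exists_smul_eq G a1 a2
    have h3 : #{c | Orb G a1 b1 a1 c} = #{c | Orb G a1 b1 (g • a1) c} :=
      card_equiv (toPerm g) fun c => by simp [orb_smul]
    have h4 := card_le_card (s := ({c | Orb G a1 b1 (g • a1) c} : Finset Ω) ∪
      ({c | Orb G (g • a1) b2 (g • a1) c} : Finset Ω)) (t := univ.erase (g • a1)) fun c hc => by
        simp only [mem_union, mem_filter, mem_univ, true_and, mem_erase, and_true] at hc ⊢
        exact hc.elim (fun h => (h.ne n1).symm) fun h => (h.ne n2).symm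
    rw [card_union_of_disjoint (disjoint_filter.mpr fun c _ h h' => n12 (Orb.trans h (Orb.symm h'))),
      card_erase_of_mem (mem_univ _), card_univ, hN] at h4
    omega

theorem caseIII [Finite Ω] [IsPretransitive G Ω] [FaithfulSMul G Ω] (hΩ : Nat.card Ω = 3 * p)
    (hm : T.m + 1 = 2 * p) : p = 5 ∧ Nonempty (G ≃* alternatingGroup (Fin 6)) := by
  have h5 := T.five_of_III hΩ hm
  have := T.simple
  obtain ⟨n, ψ, hn, h8, h9, -, -, -, h10⟩ := T.decIII hΩ hm
  have h11 : ψ ≠ irrOne G := fun h => h8 (h ▸ irrOne_mem_prinBlk hp.out)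
  have h1 := Sieve.card_dvd_of_int h11 fun g => ⟨(fixedBy Ω g).ncard - 1 - T.v g, by
    have := hn g
    rw [h10, irrOne_apply, T.v_eq, pc] at this
    push_cast
    linear_combination -this⟩
  rw [h9, h5, show ∏ i ∈ Ico (-((5 : ℕ) : ℤ)) (5 : ℕ), (((5 : ℕ) : ℤ) - i) = (3628800 : ℕ) by decide,
    Int.natCast_dvd_natCast, ← T.c_mul_i] at h1
  have h2 := abs_le.mp (T.abs_v_t (μ := 1) (by omega))
  have h3 := T.four_dvd T.tt
  have h4 := T.order
  have h6 := T.odd_i
  have hm9 : T.m = 9 := by omega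
  rw [hm9] at h3 h4
  rw [show T.v T.t = 1 by omega] at h4
  have h7 : 8 * T.i = 45 * T.c := by
    have : (p : ℤ) = 5 := by exact_mod_cast h5
    rw [this] at h4
    omega
  obtain ⟨c, hc⟩ : ∃ c, T.c = 8 * c := ⟨T.c / 8, by omega⟩
  have hi : T.i = 45 * c := by omega
  have h13 := T.D.card_G
  have h14 := card_sylow_modEq_one p G
  rw [T.cA, T.hK, card_bot, ← T.c_mul_i, hc, hi] at h13
  rw [hc, hi] at h1
  have h15 : c * c ∣ 10080 := Nat.dvd_of_mul_dvd_mul_left (show 0 < 360 by norm_num) (by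
    rw [show 360 * (c * c) = 8 * c * (45 * c) by ring]; exact h1)
  have h16 : c ≤ 100 := by
    have := Nat.le_of_dvd (by norm_num) h15
    nlinarith
  have h17 : c = 1 := by
    generalize Nat.card (Sylow p G) = N at h13 h14
    subst h5
    rw [Nat.ModEq] at h14
    interval_cases c <;> omega
  subst h17
  exact ⟨h5, alt_six_of_cent T.perf (by rw [← T.c_mul_i, hc, hi]) T.t_ne (fun s => T.conj_t) hc T.four⟩

end TA

end Cfsg.Agent.H4
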